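import Mathlib

/-!
# Characters obtained from a pairing of finite abelian groups
-/

set_option autoImplicit false

namespace CfsgLib.CharsMore.D4MinDeg

open Finset

variable {A B F : Type*} [AddCommGroup A] [AddCommGroup B] [AddCommGroup F]

/-- the character of `B` attached to `a` by a pairing and a character of the values -/
noncomputable def pairChar (P : A →+ B →+ F) (l : AddChar F ℂ) (a : A) : AddChar B ℂ :=
  l.compAddMonoidHom (P a)

lemma pairChar_apply (P : A →+ B →+ F) (l : AddChar F ℂ) (a : A) (b : B) :
    pairChar P l a b = l (P a b) := rfl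

/-- a pairing onto the values meets every character -/
lemma pairChar_surjective [Fintype A] [Fintype B] (hc : Fintype.card A = Fintype.card B)
    (P : A →+ B →+ F) (hP : ∀ a, a ≠ 0 → Function.Surjective (P a)) {l : AddChar F ℂ} (hl : l ≠ 1) :
    Function.Surjective (pairChar P l) := by
  refine ((Fintype.bijective_iff_injective_and_card _).2 ⟨?_, by rw [AddChar.card_eq, hc]⟩).2
  intro a a' h
  by_contra hne
  obtain ⟨x, hx⟩ := AddChar.ne_one_iff.1 hl
  obtain ⟨b, hb⟩ := hP (a - a') (sub_ne_zero.2 hne) x
  have h1 : l (P a b) = l (P a' b) := DFunLike.congr_fun h b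
  refine hx ?_
  rw [← hb, map_sub, AddMonoidHom.sub_apply, AddChar.map_sub_eq_div, h1,
    div_self ((AddChar.val_isUnit l _).ne_zero)]

end CfsgLib.CharsMore.D4MinDeg
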