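import Cfsg.Agent.Lib.CharsMore.D4MinDeg.Weights2
import Cfsg.Agent.Lib.CharsMore.D4MinDeg.Pairing

/-!
# A lower bound for degrees from the parabolic unipotent radical of a triality twisted group

`zE`, `dE`, `cE` play the parts of the highest root group, a long root group next to it and a short
one; `aE`, `bE`, `wE` shift the characters of their product.
-/

set_option autoImplicit false

namespace CfsgLib.CharsMore.D4MinDeg

open Module Finset

/-- the relations that are used -/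
structure Cfg (F K G : Type*) [Field F] [Field K] [Group G] where
  zE : AddChar F G
  dE : AddChar F G
  aE : AddChar F G
  cE : AddChar K G
  bE : AddChar K G
  wE : AddChar K G
  z_d : ∀ x y, Commute (zE x) (dE y)
  z_c : ∀ x y, Commute (zE x) (cE y)
  z_a : ∀ x y, Commute (zE x) (aE y)
  z_b : ∀ x y, Commute (zE x) (bE y)
  z_w : ∀ x y, Commute (zE x) (wE y)
  d_c : ∀ x y, Commute (dE x) (cE y)
  d_b : ∀ x y, Commute (dE x) (bE y)
  d_w : ∀ x y, Commute (dE x) (wE y)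
  a_c : ∀ x y, Commute (aE x) (cE y)
  a_d : ∀ x y, aE x * dE y = dE y * zE (x * y) * aE x
  P : K →+ K →+ F
  P_surj : ∀ y, y ≠ 0 → Function.Surjective (P y)
  b_c : ∀ y w, bE y * cE w = cE w * zE (P y w) * bE y
  L : K →+ K →+ F
  L_surj : ∀ y, y ≠ 0 → Function.Surjective (L y)
  w_c : ∀ t w, wE t * cE w = cE w * dE (L t w) * wE t
  w_a : ∀ μ : F, ∃ t, ∀ x, ∃ y₁ y₂ x',
    aE x * wE t = wE t * (aE x * bE y₁ * cE y₂ * dE (μ * x) * zE x')
  h : ∀ l : F, l ≠ 0 → ∃ g, (∀ x, g * zE x = zE (l * x) * g) ∧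
    (∀ y, g * dE y = dE (l⁻¹ * y) * g) ∧ ∀ w, g * cE w = cE w * g
  hscale : ∀ μ : F, μ ≠ 0 → ∃ g, (∀ x, g * zE x = zE x * g) ∧
    (∀ y, g * dE y = dE (μ * y) * g) ∧ ∀ x, g * aE x = aE (μ⁻¹ * x) * g
  hsq : ∃ (g : G) (s : K), s ≠ 1 ∧ (∀ x, zE x * g = g * zE x) ∧ (∀ y, dE y * g = g * dE y) ∧
    (∀ w, ∃ w', cE w * g = g * cE w') ∧ ∀ y, g * bE y = bE (s * y) * g
  nJ : ∃ g, (∀ x, zE x * g = g * zE x) ∧ (∀ y, dE y * g = g * aE (-y)) ∧ ∀ x, aE x * g = g * dE x
  n2 : ∃ g, ∀ x, g * zE x = dE (-x) * g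

variable {F K G : Type*} [Field F] [Fintype F] [Field K] [Fintype K] [Group G]

/-- the character of the triple -/
def tri (l δ : AddChar F ℂ) (γ : AddChar K ℂ) : AddChar (F × F × K) ℂ where
  toFun m := l m.1 * δ m.2.1 * γ m.2.2
  map_zero_eq_one' := by simp
  map_add_eq_mul' m n := by
    simp only [Prod.fst_add, Prod.snd_add, AddChar.map_add_eq_mul]; ring

omit [Fintype F] [Fintype K] in
lemma tri_apply (l δ : AddChar F ℂ) (γ : AddChar K ℂ) (m : F × F × K) :
    tri l δ γ m = l m.1 * δ m.2.1 * γ m.2.2 := rfl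

omit [Fintype F] [Fintype K] in
lemma tri_bijective :
    Function.Bijective fun p : AddChar F ℂ × AddChar F ℂ × AddChar K ℂ => tri p.1 p.2.1 p.2.2 := by
  refine ⟨fun p p' h => ?_, fun χ => ?_⟩
  · have h' := DFunLike.congr_fun h
    refine Prod.ext (DFunLike.ext _ _ fun x => ?_) (Prod.ext (DFunLike.ext _ _ fun x => ?_) (DFunLike.ext _ _ fun x => ?_))
    · simpa [tri_apply] using h' (x, 0, 0)
    · simpa [tri_apply] using h' (0, x, 0)
    · simpa [tri_apply] using h' (0, 0, x)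
  · refine ⟨⟨⟨fun x => χ (x, 0, 0), χ.map_zero_eq_one, fun x y => ?_⟩,
      ⟨fun x => χ (0, x, 0), χ.map_zero_eq_one, fun x y => ?_⟩,
      ⟨fun x => χ (0, 0, x), χ.map_zero_eq_one, fun x y => ?_⟩⟩, DFunLike.ext _ _ fun m => ?_⟩
    iterate 3 rw [← AddChar.map_add_eq_mul]; simp
    show χ (m.1, 0, 0) * χ (0, m.2.1, 0) * χ (0, 0, m.2.2) = χ m
    rw [← AddChar.map_add_eq_mul, ← AddChar.map_add_eq_mul]; simp

omit [Fintype F] in
lemma exists_mulShift_eq [Fintype F] {l : AddChar F ℂ} (hl : l ≠ 1) (δ : AddChar F ℂ) :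
    ∃ x, AddChar.mulShift l x = δ := by
  obtain ⟨x, rfl⟩ := pairChar_surjective (A := F) (B := F) rfl AddMonoidHom.mul
    (fun a ha b => ⟨a⁻¹ * b, by simp [AddMonoidHom.mul_apply, ← mul_assoc, mul_inv_cancel₀ ha]⟩) hl δ
  exact ⟨x, DFunLike.ext _ _ fun b => rfl⟩

namespace Cfg

variable (C : Cfg F K G)

/-- the abelian subgroup -/
def e : AddChar (F × F × K) G where
  toFun m := C.zE m.1 * C.dE m.2.1 * C.cE m.2.2
  map_zero_eq_one' := by simp
  map_add_eq_mul' m n := by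
    simp only [Prod.fst_add, Prod.snd_add, AddChar.map_add_eq_mul]
    calc C.zE m.1 * C.zE n.1 * (C.dE m.2.1 * C.dE n.2.1) * (C.cE m.2.2 * C.cE n.2.2)
        = C.zE m.1 * (C.zE n.1 * C.dE m.2.1) * (C.dE n.2.1 * C.cE m.2.2) * C.cE n.2.2 := by group
      _ = C.zE m.1 * (C.dE m.2.1 * C.zE n.1) * (C.cE m.2.2 * C.dE n.2.1) * C.cE n.2.2 := by
          rw [(C.z_d _ _).eq, (C.d_c _ _).eq]
      _ = C.zE m.1 * C.dE m.2.1 * (C.zE n.1 * C.cE m.2.2) * (C.dE n.2.1 * C.cE n.2.2) := by group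
      _ = _ := by rw [(C.z_c _ _).eq]; group

omit [Fintype F] [Fintype K] in
lemma e_apply (m : F × F × K) : C.e m = C.zE m.1 * C.dE m.2.1 * C.cE m.2.2 := rfl

variable {V : Type*} [AddCommGroup V] [Module ℂ V] [FiniteDimensional ℂ V]
  (ρ : Representation ℂ G V)

local notation "nn" => fun l δ γ => mult ρ C.e (tri l δ γ)

omit [Fintype F] [Fintype K] [FiniteDimensional ℂ V] in
lemma z_wt {l δ : AddChar F ℂ} {γ : AddChar K ℂ} {v : V} (hv : IsWt ρ C.e (tri l δ γ) v) :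
    (∀ x, ρ (C.zE x) v = l x • v) ∧ (∀ y, ρ (C.dE y) v = δ y • v) ∧ ∀ w, ρ (C.cE w) v = γ w • v :=
  ⟨fun x => by simpa [e_apply, tri_apply] using hv (x, 0, 0),
    fun y => by simpa [e_apply, tri_apply] using hv (0, y, 0),
    fun w => by simpa [e_apply, tri_apply] using hv (0, 0, w)⟩

omit [Fintype F] [Fintype K] [FiniteDimensional ℂ V] in
lemma wt_of {l δ : AddChar F ℂ} {γ : AddChar K ℂ} {v : V} (hz : ∀ x, ρ (C.zE x) v = l x • v)
    (hd : ∀ y, ρ (C.dE y) v = δ y • v) (hc : ∀ w, ρ (C.cE w) v = γ w • v) :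
    IsWt ρ C.e (tri l δ γ) v := fun m => by
  rw [e_apply, apply_mul_apply, apply_mul_apply, hc, map_smul, hd, map_smul, map_smul, hz, smul_smul,
    smul_smul, tri_apply]
  congr 1
  ring

lemma shift_a (x : F) (l δ : AddChar F ℂ) (γ : AddChar K ℂ) :
    nn l (AddChar.mulShift l x * δ) γ = nn l δ γ := by
  let f : F × F × K ≃ F × F × K :=
    { toFun := fun m => (m.1 + x * m.2.1, m.2.1, m.2.2)
      invFun := fun m => (m.1 - x * m.2.1, m.2.1, m.2.2)
      left_inv := fun m => by simp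
      right_inv := fun m => by simp }
  refine mult_conj ρ C.e (g := C.aE x) (f := f) (fun m => ?_) fun m => ?_
  · show _ = C.e (m.1 + x * m.2.1, m.2.1, m.2.2) * _
    rw [e_apply, e_apply, AddChar.map_add_eq_mul]
    calc C.aE x * (C.zE m.1 * C.dE m.2.1 * C.cE m.2.2)
        = C.aE x * C.zE m.1 * (C.dE m.2.1 * C.cE m.2.2) := by group
      _ = C.zE m.1 * (C.aE x * C.dE m.2.1) * C.cE m.2.2 := by rw [← (C.z_a _ _).eq]; group
      _ = C.zE m.1 * (C.dE m.2.1 * C.zE (x * m.2.1)) * (C.aE x * C.cE m.2.2) := by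
          rw [C.a_d]; group
      _ = _ := by rw [(C.a_c _ _).eq, ← (C.z_d _ _).eq]; group
  · simp only [f, Equiv.coe_fn_mk, tri_apply, AddChar.map_add_eq_mul, AddChar.mul_apply,
      AddChar.mulShift_apply]
    ring

lemma shift_b (y : K) (l δ : AddChar F ℂ) (γ : AddChar K ℂ) :
    nn l δ (pairChar C.P l y * γ) = nn l δ γ := by
  let f : F × F × K ≃ F × F × K :=
    { toFun := fun m => (m.1 + C.P y m.2.2, m.2.1, m.2.2)
      invFun := fun m => (m.1 - C.P y m.2.2, m.2.1, m.2.2)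
      left_inv := fun m => by simp
      right_inv := fun m => by simp }
  refine mult_conj ρ C.e (g := C.bE y) (f := f) (fun m => ?_) fun m => ?_
  · show _ = C.e (m.1 + C.P y m.2.2, m.2.1, m.2.2) * _
    rw [e_apply, e_apply, AddChar.map_add_eq_mul]
    calc C.bE y * (C.zE m.1 * C.dE m.2.1 * C.cE m.2.2)
        = C.bE y * C.zE m.1 * C.dE m.2.1 * C.cE m.2.2 := by group
      _ = C.zE m.1 * (C.bE y * C.dE m.2.1) * C.cE m.2.2 := by rw [← (C.z_b _ _).eq]; group
      _ = C.zE m.1 * C.dE m.2.1 * (C.bE y * C.cE m.2.2) := by rw [← (C.d_b _ _).eq]; group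
      _ = C.zE m.1 * C.dE m.2.1 * (C.cE m.2.2 * C.zE (C.P y m.2.2)) * C.bE y := by rw [C.b_c]; group
      _ = C.zE m.1 * (C.dE m.2.1 * C.zE (C.P y m.2.2)) * C.cE m.2.2 * C.bE y := by
          rw [← (C.z_c _ _).eq]; group
      _ = _ := by rw [← (C.z_d _ _).eq]; group
  · simp only [f, Equiv.coe_fn_mk, tri_apply, AddChar.map_add_eq_mul, AddChar.mul_apply,
      pairChar_apply]
    ring

lemma shift_w (t : K) (l δ : AddChar F ℂ) (γ : AddChar K ℂ) :
    nn l δ (pairChar C.L δ t * γ) = nn l δ γ := by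
  let f : F × F × K ≃ F × F × K :=
    { toFun := fun m => (m.1, m.2.1 + C.L t m.2.2, m.2.2)
      invFun := fun m => (m.1, m.2.1 - C.L t m.2.2, m.2.2)
      left_inv := fun m => by simp
      right_inv := fun m => by simp }
  refine mult_conj ρ C.e (g := C.wE t) (f := f) (fun m => ?_) fun m => ?_
  · show _ = C.e (m.1, m.2.1 + C.L t m.2.2, m.2.2) * _
    rw [e_apply, e_apply, AddChar.map_add_eq_mul]
    calc C.wE t * (C.zE m.1 * C.dE m.2.1 * C.cE m.2.2)
        = C.wE t * C.zE m.1 * C.dE m.2.1 * C.cE m.2.2 := by group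
      _ = C.zE m.1 * (C.wE t * C.dE m.2.1) * C.cE m.2.2 := by rw [← (C.z_w _ _).eq]; group
      _ = C.zE m.1 * C.dE m.2.1 * (C.wE t * C.cE m.2.2) := by rw [← (C.d_w _ _).eq]; group
      _ = C.zE m.1 * C.dE m.2.1 * (C.cE m.2.2 * C.dE (C.L t m.2.2)) * C.wE t := by rw [C.w_c]; group
      _ = _ := by rw [← (C.d_c _ _).eq]; group
  · simp only [f, Equiv.coe_fn_mk, tri_apply, AddChar.map_add_eq_mul, AddChar.mul_apply,
      pairChar_apply]
    ring

lemma shift_h {c : F} (hc : c ≠ 0) (l δ : AddChar F ℂ) (γ : AddChar K ℂ) :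
    nn (AddChar.mulShift l c) (AddChar.mulShift δ c⁻¹) γ = nn l δ γ := by
  obtain ⟨g, h1, h2, h3⟩ := C.h c hc
  let f : F × F × K ≃ F × F × K := Equiv.prodCongr (Equiv.mulLeft₀ c hc)
    (Equiv.prodCongr (Equiv.mulLeft₀ c⁻¹ (inv_ne_zero hc)) (Equiv.refl K))
  refine mult_conj ρ C.e (g := g) (f := f) (fun m => ?_) fun m => ?_
  · show _ = C.e (c * m.1, c⁻¹ * m.2.1, m.2.2) * _
    rw [e_apply, e_apply]
    calc g * (C.zE m.1 * C.dE m.2.1 * C.cE m.2.2)
        = g * C.zE m.1 * C.dE m.2.1 * C.cE m.2.2 := by group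
      _ = C.zE (c * m.1) * (g * C.dE m.2.1) * C.cE m.2.2 := by rw [h1]; group
      _ = C.zE (c * m.1) * C.dE (c⁻¹ * m.2.1) * (g * C.cE m.2.2) := by rw [h2]; group
      _ = _ := by rw [h3]; group
  · simp [f, tri_apply, AddChar.mulShift_apply]

lemma mult_full {l : AddChar F ℂ} (hl : l ≠ 1) (hK : Function.Surjective (pairChar C.P l))
    (δ : AddChar F ℂ) (γ : AddChar K ℂ) {l' : AddChar F ℂ} (hl' : l' ≠ 1) :
    nn l δ γ = nn l' 1 1 := by
  obtain ⟨x, hx⟩ := exists_mulShift_eq hl δ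
  obtain ⟨y, hy⟩ := hK γ
  obtain ⟨c, rfl⟩ := exists_mulShift_eq hl l'
  have hc : c ≠ 0 := by
    rintro rfl
    exact hl' (AddChar.mulShift_zero l)
  have e1 := C.shift_a ρ x l 1 γ
  have e2 := C.shift_b ρ y l 1 1
  have e3 := C.shift_h ρ hc l 1 1
  simp only [mul_one, hx, hy] at e1 e2
  rw [show AddChar.mulShift (1 : AddChar F ℂ) c⁻¹ = 1 from DFunLike.ext _ _ fun z => by simp] at e3
  exact e1.trans (e2.trans e3.symm)

lemma mult_mid {δ : AddChar F ℂ} (hδ : δ ≠ 1) (γ : AddChar K ℂ) {δ' : AddChar F ℂ} (hδ' : δ' ≠ 1) :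
    nn 1 δ γ = nn 1 δ' 1 := by
  obtain ⟨t, ht⟩ := pairChar_surjective rfl C.L C.L_surj hδ γ
  obtain ⟨c, rfl⟩ := exists_mulShift_eq hδ δ'
  have hc : c ≠ 0 := by
    rintro rfl
    exact hδ' (AddChar.mulShift_zero δ)
  have e2 := C.shift_w ρ t 1 δ 1
  have e3 := C.shift_h ρ (inv_ne_zero hc) 1 δ 1
  simp only [mul_one, ht] at e2
  rw [inv_inv, show AddChar.mulShift (1 : AddChar F ℂ) c⁻¹ = 1 from
    DFunLike.ext _ _ fun z => by simp] at e3
  exact e2.trans e3.symm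

omit [FiniteDimensional ℂ V] in
/-- the independent vectors fixed by `zE` and `dE` -/
lemma exists_fixed_family {δ : AddChar F ℂ} (hδ : δ ≠ 1) {v : V} (hv : v ≠ 0)
    (hwt : IsWt ρ C.e (tri 1 δ 1) v)
    (huniq : ∀ w, IsWt ρ C.e (tri 1 δ 1) w → ∃ c : ℂ, c • v = w) :
    ∃ u : {μ : F // μ ≠ 0} → V, LinearIndependent ℂ u ∧
      ∀ μ x, ρ (C.zE x) (u μ) = u μ ∧ ρ (C.dE x) (u μ) = u μ := by
  classical
  obtain ⟨hz, hd, hc⟩ := C.z_wt ρ hwt
  simp only [AddChar.one_apply, one_smul] at hz hc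
  -- `aE` acts by a character
  obtain ⟨α, hα⟩ := exists_eigChar ρ C.aE hv fun x => by
    refine huniq _ (C.wt_of ρ (fun z => ?_) (fun y => ?_) fun w => ?_)
    · rw [← apply_mul_apply, (C.z_a z x).eq, apply_mul_apply, hz, AddChar.one_apply, one_smul]
    · rw [← apply_mul_apply]
      have : C.dE y * C.aE x = C.zE (-(x * y)) * C.aE x * C.dE y := by
        rw [mul_assoc, C.a_d, AddChar.map_neg_eq_inv, (C.z_d (x * y) y).symm.eq]; group
      rw [this, apply_mul_apply, apply_mul_apply, hd, map_smul, map_smul, ← apply_mul_apply ρ (C.zE _),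
        (C.z_a _ x).eq, apply_mul_apply, hz]
    · rw [← apply_mul_apply, ← (C.a_c x w).eq, apply_mul_apply, hc, AddChar.one_apply, one_smul]
  -- `bE` acts by a character
  obtain ⟨β, hβ⟩ := exists_eigChar ρ C.bE hv fun y => by
    refine huniq _ (C.wt_of ρ (fun z => ?_) (fun d => ?_) fun w => ?_)
    · rw [← apply_mul_apply, (C.z_b z y).eq, apply_mul_apply, hz, AddChar.one_apply, one_smul]
    · rw [← apply_mul_apply, (C.d_b d y).eq, apply_mul_apply, hd, map_smul]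
    · rw [← apply_mul_apply]
      have : C.cE w * C.bE y = C.bE y * C.cE w * C.zE (-(C.P y w)) := by
        rw [C.b_c, mul_assoc, ← (C.z_b _ _).eq, AddChar.map_neg_eq_inv]; group
      rw [this, apply_mul_apply, hz, apply_mul_apply, hc, AddChar.one_apply, one_smul]
  -- which is trivial
  have hb : ∀ y, ρ (C.bE y) v = v := by
    obtain ⟨g, s, hs, g1, g2, g3, g4⟩ := C.hsq
    obtain ⟨c, hc'⟩ := huniq (ρ g v) (C.wt_of ρ
      (fun x => by rw [← apply_mul_apply, g1, apply_mul_apply, hz, AddChar.one_apply, one_smul])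
      (fun y => by rw [← apply_mul_apply, g2, apply_mul_apply, hd, map_smul])
      (fun w => by
        obtain ⟨w', hw'⟩ := g3 w
        rw [← apply_mul_apply, hw', apply_mul_apply, hc, AddChar.one_apply, one_smul]))
    have hgv : ρ g v ≠ 0 := apply_ne_zero ρ g hv
    have key : ∀ y, β (s * y) = β y := fun y => smul_left_injective ℂ hgv (by
      show β (s * y) • ρ g v = β y • ρ g v
      rw [← map_smul (ρ g) (β y), ← hβ y, ← apply_mul_apply, g4, apply_mul_apply, ← hc', map_smul,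
        hβ, smul_comm])
    intro y
    have h := key (y / (s - 1))
    rw [show s * (y / (s - 1)) = y / (s - 1) + y by field_simp [sub_ne_zero.2 hs]; ring,
      AddChar.map_add_eq_mul] at h
    rw [hβ, (mul_eq_left₀ (AddChar.val_isUnit β _).ne_zero).1 h, one_smul]
  -- move to a vector fixed by `aE`
  obtain ⟨μ, hμ⟩ := exists_mulShift_eq hδ α⁻¹
  obtain ⟨t, ht⟩ := C.w_a μ
  set v' := ρ (C.wE t) v
  have hv' : v' ≠ 0 := apply_ne_zero ρ _ hv
  have z' : ∀ x, ρ (C.zE x) v' = v' := fun x => by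
    rw [← apply_mul_apply, (C.z_w x t).eq, apply_mul_apply, hz]
  have d' : ∀ y, ρ (C.dE y) v' = δ y • v' := fun y => by
    rw [← apply_mul_apply, (C.d_w y t).eq, apply_mul_apply, hd, map_smul]
  have a' : ∀ x, ρ (C.aE x) v' = v' := fun x => by
    obtain ⟨y₁, y₂, x', h⟩ := ht x
    rw [← apply_mul_apply, h]
    simp only [apply_mul_apply, hz, hd, map_smul, hc, hb, hα, smul_smul]
    rw [← AddChar.mulShift_apply, hμ, AddChar.inv_apply', inv_mul_cancel₀
      (AddChar.val_isUnit α _).ne_zero, one_smul]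
  -- exchange the roles of `aE` and `dE`
  obtain ⟨n, n1, n2, n3⟩ := C.nJ
  set w := ρ n v'
  have hw : w ≠ 0 := apply_ne_zero ρ _ hv'
  have z'' : ∀ x, ρ (C.zE x) w = w := fun x => by rw [← apply_mul_apply, n1, apply_mul_apply, z']
  have d'' : ∀ y, ρ (C.dE y) w = w := fun y => by rw [← apply_mul_apply, n2, apply_mul_apply, a']
  have a'' : ∀ x, ρ (C.aE x) w = δ x • w := fun x => by
    rw [← apply_mul_apply, n3, apply_mul_apply, d', map_smul]
  have key : ∀ μ : {μ : F // μ ≠ 0}, ∃ u : V, u ≠ 0 ∧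
      (∀ x, ρ (C.zE x) u = u ∧ ρ (C.dE x) u = u) ∧ ∀ x, ρ (C.aE x) u = δ (μ.1 * x) • u := by
    intro μ
    obtain ⟨g, g1, g2, g3⟩ := C.hscale μ.1 μ.2
    refine ⟨ρ g w, apply_ne_zero ρ _ hw, fun x => ⟨?_, ?_⟩, fun x => ?_⟩
    · rw [← apply_mul_apply, ← g1, apply_mul_apply, z'']
    · rw [← apply_mul_apply, show x = μ.1 * (μ.1⁻¹ * x) by rw [mul_inv_cancel_left₀ μ.2], ← g2,
        apply_mul_apply, d'']
    · rw [← apply_mul_apply]
      conv_lhs => rw [show x = μ.1⁻¹ * (μ.1 * x) by rw [inv_mul_cancel_left₀ μ.2], ← g3]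
      rw [apply_mul_apply, a'', map_smul]
  choose u hu0 hzd hau using key
  refine ⟨u, Fintype.linearIndependent_iff.2 fun c hc0 i => ?_, hzd⟩
  have h1 : ∀ j, (∑ x, δ (-(i.1 * x)) • ρ (C.aE x) (u j)) =
      (if j = i then (Fintype.card F : ℂ) else 0) • u j := by
    intro j
    simp only [hau, smul_smul, ← Finset.sum_smul]
    congr 1
    have : ∀ x, δ (-(i.1 * x)) * δ (j.1 * x) = δ (x * (j.1 - i.1)) := fun x => by
      rw [← AddChar.map_add_eq_mul]; congr 1; ring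
    rw [Finset.sum_congr rfl fun x _ => this x,
      AddChar.sum_mulShift _ (AddChar.IsPrimitive.of_ne_one hδ)]
    simp [sub_eq_zero, Subtype.ext_iff]
  have h2 : ∑ x, δ (-(i.1 * x)) • ρ (C.aE x) (∑ j, c j • u j) = 0 := by simp [hc0]
  simp only [map_sum, map_smul, Finset.smul_sum] at h2
  rw [Finset.sum_comm] at h2
  simp only [smul_comm _ (c _), ← Finset.smul_sum, h1] at h2
  rw [Finset.sum_eq_single i (fun j _ hj => by rw [if_neg hj, zero_smul, smul_zero]) (by simp),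
    if_pos rfl, smul_smul, smul_eq_zero] at h2
  exact (mul_eq_zero.1 (h2.resolve_right (hu0 i))).resolve_right
    (Nat.cast_ne_zero.2 Fintype.card_ne_zero)

/-- the bound -/
theorem le_finrank {q : ℕ} (hF : Fintype.card F = q) (hK : Fintype.card K = q ^ 3)
    (hz : ∃ x, ρ (C.zE x) ≠ 1) : q ^ 5 + q ≤ finrank ℂ V + q ^ 3 + 1 := by
  classical
  have hq : 2 ≤ q := hF ▸ Fintype.one_lt_card
  have hcF : Fintype.card (AddChar F ℂ) = q := by rw [AddChar.card_eq, hF]
  have hcK : Fintype.card (AddChar K ℂ) = q ^ 3 := by rw [AddChar.card_eq, hK]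
  obtain ⟨l₀, hl₀⟩ := Fintype.exists_ne_of_one_lt_card (show 1 < Fintype.card (AddChar F ℂ) by omega) 1
  set a := nn l₀ 1 1
  set m := nn 1 l₀ 1
  have ha : ∀ l δ γ, l ≠ 1 → nn l δ γ = a := fun l δ γ hl =>
    C.mult_full ρ hl (pairChar_surjective rfl C.P C.P_surj hl) δ γ hl₀
  have hm : ∀ δ γ, δ ≠ 1 → nn 1 δ γ = m := fun δ γ hδ => C.mult_mid ρ hδ γ hl₀
  set f := ∑ γ, nn 1 1 γ with hf
  have hcount : ∀ (g : AddChar F ℂ → ℕ) (c : ℕ), (∀ l, l ≠ 1 → g l = c) →
      ∑ l, g l = g 1 + (q - 1) * c := by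
    intro g c h
    rw [← Finset.add_sum_erase _ _ (Finset.mem_univ (1 : AddChar F ℂ)),
      Finset.sum_congr rfl fun l hl => h l (Finset.ne_of_mem_erase hl), Finset.sum_const,
      Finset.card_erase_of_mem (Finset.mem_univ _), Finset.card_univ, hcF, smul_eq_mul]
  have hsum : finrank ℂ V = f + (q - 1) * (q ^ 3 * m) + (q - 1) * (q * (q ^ 3 * a)) := by
    rw [← sum_mult ρ C.e, ← (Equiv.ofBijective _ tri_bijective).sum_comp, Fintype.sum_prod_type]
    simp only [Equiv.ofBijective_apply, Fintype.sum_prod_type]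
    rw [hcount _ (q * (q ^ 3 * a)) fun l hl => by
      rw [Finset.sum_congr rfl fun δ _ => Finset.sum_congr rfl fun γ _ => ha l δ γ hl]
      simp [hcF, hcK]]
    rw [hcount _ (q ^ 3 * m) fun δ hδ => by
      rw [Finset.sum_congr rfl fun γ _ => hm δ γ hδ]
      simp [hcK]]
  have ha1 : a ≠ 0 := by
    intro h0
    obtain ⟨x, hx⟩ := hz
    refine hx ?_
    rw [show C.zE x = C.e (x, 0, 0) by simp [e_apply], apply_eq_sum, ← sum_wp ρ C.e]
    refine Finset.sum_congr rfl fun χ _ => ?_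
    obtain ⟨⟨l, δ, γ⟩, rfl⟩ := tri_bijective.surjective χ
    by_cases hl : l = 1
    · simp [tri_apply, hl]
    · rw [wp_eq_zero ρ C.e ((ha l δ γ hl).trans h0), smul_zero]
  have htz : ∑ x, LinearMap.trace ℂ V (ρ (C.e (x, 0, 0))) =
      ((q * (f + (q - 1) * (q ^ 3 * m)) : ℕ) : ℂ) := by
    simp only [trace_apply]
    rw [Finset.sum_comm, ← (Equiv.ofBijective _ tri_bijective).sum_comp, Fintype.sum_prod_type]
    simp only [Equiv.ofBijective_apply, tri_apply, AddChar.map_zero_eq_one, mul_one, ← Finset.sum_mul,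
      AddChar.sum_eq_ite, hF]
    simp only [← AddChar.one_eq_zero, Fintype.sum_prod_type]
    rw [Finset.sum_eq_single (1 : AddChar F ℂ) (fun l _ hl => by simp [hl]) (by simp)]
    simp only [if_pos]
    rw [← hcount (fun δ => ∑ γ, nn 1 δ γ) (q ^ 3 * m) fun δ hδ => by
      simp [Finset.sum_congr rfl fun γ _ => hm δ γ hδ, hcK]]
    push_cast
    simp [Finset.mul_sum]
  have htd : ∑ x, LinearMap.trace ℂ V (ρ (C.e (0, x, 0))) =
      ((q * (f + (q - 1) * (q ^ 3 * a)) : ℕ) : ℂ) := by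
    simp only [trace_apply]
    rw [Finset.sum_comm, ← (Equiv.ofBijective _ tri_bijective).sum_comp, Fintype.sum_prod_type]
    simp only [Equiv.ofBijective_apply, tri_apply, AddChar.map_zero_eq_one, one_mul, mul_one,
      ← Finset.sum_mul, AddChar.sum_eq_ite, hF, Fintype.sum_prod_type]
    simp only [← AddChar.one_eq_zero]
    rw [Finset.sum_congr rfl fun l _ => Finset.sum_eq_single (1 : AddChar F ℂ)
      (fun δ _ hδ => by simp [hδ]) (by simp)]
    simp only [if_pos]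
    rw [← hcount (fun l => ∑ γ, nn l 1 γ) (q ^ 3 * a) fun l hl => by
      simp [Finset.sum_congr rfl fun γ _ => ha l 1 γ hl, hcK]]
    push_cast
    simp [Finset.mul_sum]
  have heq : f + (q - 1) * (q ^ 3 * m) = f + (q - 1) * (q ^ 3 * a) := by
    obtain ⟨g, hg⟩ := C.n2
    have hh : ∀ x, LinearMap.trace ℂ V (ρ (C.e (x, 0, 0))) =
        LinearMap.trace ℂ V (ρ (C.e (0, -x, 0))) := by
      intro x
      simp only [e_apply, AddChar.map_zero_eq_one, mul_one, one_mul]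
      rw [show C.dE (-x) = g * C.zE x * g⁻¹ by rw [hg]; group, map_mul ρ, map_mul ρ,
        LinearMap.trace_mul_comm ℂ, ← mul_assoc, ← map_mul ρ, inv_mul_cancel, map_one, one_mul]
    have h2 : ∑ x, LinearMap.trace ℂ V (ρ (C.e (x, 0, 0))) =
        ∑ x, LinearMap.trace ℂ V (ρ (C.e (0, x, 0))) :=
      Fintype.sum_equiv (Equiv.neg F) _ _ hh
    rw [htz, htd] at h2
    exact Nat.eq_of_mul_eq_mul_left (by omega) (Nat.cast_injective h2)
  have ham : m = a := by
    have := Nat.eq_of_mul_eq_mul_left (by omega) (Nat.add_left_cancel heq)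
    exact Nat.eq_of_mul_eq_mul_left (by positivity) this
  obtain ⟨p, rfl⟩ : ∃ p, q = p + 2 := ⟨q - 2, by omega⟩
  simp only [show p + 2 - 1 = p + 1 by omega] at hsum
  by_cases ha2 : 2 ≤ a
  · rw [ham] at hsum
    have : (p + 1) * ((p + 2) * ((p + 2) ^ 3 * 2)) ≤ (p + 1) * ((p + 2) * ((p + 2) ^ 3 * a)) := by
      gcongr
    nlinarith [this, hsum, Nat.zero_le (p ^ 5), Nat.zero_le (p ^ 4), Nat.zero_le (p ^ 3)]
  have ha' : a = 1 := by omega
  have hne : mult ρ C.e (tri 1 l₀ 1) = 1 := by rw [← ha', ← ham]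
  obtain ⟨v, hv, hwt⟩ := exists_wt ρ C.e (χ := tri 1 l₀ 1) (by rw [hne]; exact one_ne_zero)
  obtain ⟨u, hu, hfix⟩ := C.exists_fixed_family ρ hl₀ hv hwt fun w hw =>
    exists_smul ρ C.e hne hv hwt hw
  have hfle : Fintype.card {μ : F // μ ≠ 0} ≤ f := by
    refine card_le_sum_mult ρ C.e (fun γ => tri 1 1 γ) hu fun i => ?_
    have h1 : ∑ χ, wp ρ C.e χ (u i) = u i := by
      rw [← LinearMap.sum_apply, sum_wp]; rfl
    conv_rhs => rw [← h1, ← (Equiv.ofBijective _ tri_bijective).sum_comp]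
    simp only [Fintype.sum_prod_type, Equiv.ofBijective_apply]
    rw [Finset.sum_eq_single (1 : AddChar F ℂ) (fun l _ hl => ?_) (by simp),
      Finset.sum_eq_single (1 : AddChar F ℂ) (fun δ _ hδ => ?_) (by simp)]
    · obtain ⟨y, hy⟩ := AddChar.ne_one_iff.1 hδ
      exact Finset.sum_eq_zero fun γ _ => wp_eq_zero_of_fixed ρ C.e (m := (0, y, 0))
        (by simpa [e_apply] using (hfix i y).2) (by simpa [tri_apply] using hy)
    · obtain ⟨x, hx⟩ := AddChar.ne_one_iff.1 hl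
      exact Finset.sum_eq_zero fun δ _ => Finset.sum_eq_zero fun γ _ =>
        wp_eq_zero_of_fixed ρ C.e (m := (x, 0, 0))
          (by simpa [e_apply] using (hfix i x).1) (by simpa [tri_apply] using hx)
  rw [Fintype.card_subtype_compl, Fintype.card_subtype_eq, hF] at hfle
  rw [ham, ha'] at hsum
  simp only [mul_one] at hsum
  have : p + 1 ≤ f := by omega
  nlinarith [this, hsum]

end Cfg

end CfsgLib.CharsMore.D4MinDeg
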