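import Cfsg.Agent.Lib.CharsMore.D4MinDeg.Group
import Cfsg.Agent.Lib.CharsMore.Degree

/-!
# The smallest degree of a triality twisted group
-/

set_option autoImplicit false
set_option maxRecDepth 100000

namespace CfsgLib.CharsMore.D4MinDeg

open Cfsg.Lie Matrix CfsgLib.Chev CfsgLib.Chev.D43 Module

lemma dvd_three_mul {d X Y : ℤ} (h : d ∣ X * Y) {α β : ℤ} (he : α * d + β * Y = 3) : d ∣ 3 * X := by
  obtain ⟨c, hc⟩ := h
  exact ⟨α * X + β * c, by linear_combination (-X) * he + β * hc⟩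

/-- the degree one above the bound is no divisor of the order -/
lemma not_dvd_order {q : ℕ} (hq : 2 ≤ q) :
    ¬ q ^ 4 + q ^ 3 + 1 ∣ q ^ 12 * (q ^ 2 - 1) * (q ^ 6 - 1) * (q ^ 8 + q ^ 4 + 1) := by
  intro h
  have hd : (((q ^ 4 + q ^ 3 + 1 : ℕ)) : ℤ) ∣
      ((q ^ 12 * (q ^ 2 - 1) * (q ^ 6 - 1) * (q ^ 8 + q ^ 4 + 1) : ℕ) : ℤ) := Int.natCast_dvd_natCast.2 h
  push_cast [Nat.cast_sub (Nat.one_le_pow 2 q (by omega)), Nat.cast_sub (Nat.one_le_pow 6 q (by omega))] at hd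
  generalize hx : (q : ℤ) = x at hd
  set d := x ^ 4 + x ^ 3 + 1 with hdd
  set s := x ^ 2 + x + 1
  set t := x ^ 2 - x + 1
  set u := x ^ 4 - x ^ 2 + 1
  have e : x ^ 12 * (x ^ 2 - 1) * (x ^ 6 - 1) * (x ^ 8 + x ^ 4 + 1) =
      ((x - 1) * (x - 1) * s * s) * (x ^ 12 * ((x + 1) * (x + 1) * t * t * u)) := by
    simp only [s, t, u]; ring
  rw [e] at hd
  have c0 : IsCoprime d x := ⟨1, -(x ^ 3 + x ^ 2), by simp only [hdd]; ring⟩
  have c1 : IsCoprime d (x + 1) := ⟨1, -x ^ 3, by simp only [hdd]; ring⟩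
  have c2 : IsCoprime d t := by
    refine (IsCoprime.of_add_mul_right_left (z := -(x ^ 2 + 2 * x + 1)) ?_)
    have : d + -(x ^ 2 + 2 * x + 1) * t = -x := by simp only [hdd, t]; ring
    rw [this]
    exact ⟨x - 1, 1, by simp only [t]; ring⟩
  have c3 : IsCoprime d u := by
    have e3 : d + -1 * u = x ^ 2 * (x + 1) := by simp only [hdd, u]; ring
    refine IsCoprime.of_add_mul_left_right (z := -1) ?_
    rw [show u + d * -1 = -(x ^ 2 * (x + 1)) by simp only [hdd, u]; ring]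
    exact ((c0.pow_right).mul_right c1).neg_right
  have hd1 : d ∣ (x - 1) * (x - 1) * s * s := by
    refine IsCoprime.dvd_of_dvd_mul_right ?_ hd
    exact ((c0.pow_right).mul_right ((((c1.mul_right c1).mul_right c2).mul_right c2).mul_right c3))
  have hs : (1 - x) * d + (1 + (x - 1) * (x ^ 2 - 1)) * s = 3 := by simp only [hdd, s]; ring
  have hx1 : 1 * d + -(x ^ 3 + 2 * x ^ 2 + 2 * x + 2) * (x - 1) = 3 := by simp only [hdd]; ring
  have h1 : d ∣ 3 * ((x - 1) * (x - 1) * s) := dvd_three_mul hd1 hs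
  have h2 : d ∣ 3 * (3 * ((x - 1) * (x - 1))) :=
    dvd_three_mul (by rwa [show 3 * ((x - 1) * (x - 1)) * s = 3 * ((x - 1) * (x - 1) * s) by ring]) hs
  have h3 : d ∣ 3 * (3 * 3 * (x - 1)) :=
    dvd_three_mul (by rwa [show 3 * 3 * (x - 1) * (x - 1) = 3 * (3 * ((x - 1) * (x - 1))) by ring]) hx1
  have h4 : d ∣ 3 * (3 * 3 * 3) :=
    dvd_three_mul (by rwa [show 3 * 3 * 3 * (x - 1) = 3 * (3 * 3 * (x - 1)) by ring]) hx1
  have h5 : q ^ 4 + q ^ 3 + 1 ∣ 81 := by
    have : (((q ^ 4 + q ^ 3 + 1 : ℕ)) : ℤ) ∣ ((81 : ℕ) : ℤ) := by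
      push_cast; rw [hx]; simpa [hdd] using h4
    exact Int.natCast_dvd_natCast.1 this
  rcases Nat.eq_or_lt_of_le hq with rfl | h3q
  · norm_num at h5
  · have := Nat.le_of_dvd (by norm_num) h5
    have : 3 ^ 4 + 3 ^ 3 + 1 ≤ q ^ 4 + q ^ 3 + 1 := by gcongr <;> omega
    omega

variable {K : Type*} [Field K] [Fintype K] {σ : K →+* K} {q : ℕ}

/-- the smallest degree -/
theorem min_degree (hσ : ∀ x, σ x = x ^ q) (hK : Fintype.card K = q ^ 3)
    {G : Subgroup (GL chevD4.Idx K)} (hG : G = (tw σ).fix) (hsimp : IsSimpleGroup ↥G) {k : ℕ}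
    (ρ : Representation ℂ ↥G (Fin k → ℂ)) (hρ : ρ.IsIrreducible) (hk : 2 ≤ k) :
    q * (q ^ 4 - q ^ 2 + 1) ≤ k := by
  classical
  subst hG
  have hq := two_le hK
  have hinv := invol hσ hK
  set C := cfg (σ := σ) hinv hσ hq hK
  have hF : Fintype.card (fixF σ) = q := by
    rw [← Nat.card_eq_fintype_card, ← card_pow_fixed (k := 3) (by norm_num) hq hK]
    exact Nat.card_congr (Equiv.subtypeEquivRight fun t => by rw [← hσ]; exact Iff.rfl)
  have hz : ∃ x, ρ (C.zE x) ≠ 1 := by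
    refine ⟨1, fun h1 => ?_⟩
    have hker : (ρ.ker : Subgroup ↥(tw σ).fix) = ⊤ := by
      refine (hsimp.eq_bot_or_eq_top_of_normal _ (MonoidHom.normal_ker _)).resolve_left fun hb => ?_
      have hm : C.zE 1 ∈ ρ.ker := h1
      rw [hb, Subgroup.mem_bot] at hm
      have h2 : xG stdD4.good 23 (1 : K) = xG stdD4.good 22 (0 : K) := by
        rw [xG_zero]; exact congrArg Subtype.val hm
      have := xG_inj_root stdD4.good (show 23 < chevD4.nroots by decide +kernel)
        (show 22 < chevD4.nroots by decide +kernel) one_ne_zero h2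
      omega
    have hone : ∀ (g : ↥(tw σ).fix) (x : Fin k → ℂ), ρ g x = x := fun g x => by
      rw [show ρ g = 1 from MonoidHom.mem_ker.1 (hker ▸ Subgroup.mem_top g)]; rfl
    haveI := hρ
    let i : Fin k := ⟨0, by omega⟩
    set L : Submodule ℂ (Fin k → ℂ) := Submodule.span ℂ {Pi.single i 1}
    have h2 : finrank ℂ L ≤ 1 := by
      simpa using finrank_span_le_card ({Pi.single i 1} : Set (Fin k → ℂ))
    let L' : Subrepresentation ρ := ⟨L, fun g x hx => by rwa [hone g x]⟩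
    rcases IsSimpleOrder.eq_bot_or_eq_top L' with h | h
    · have : L = ⊥ := congrArg Subrepresentation.toSubmodule h
      rw [Submodule.span_singleton_eq_bot] at this
      simpa using congrFun this i
    · have : L = ⊤ := congrArg Subrepresentation.toSubmodule h
      rw [this, finrank_top, Module.finrank_fin_fun] at h2
      omega
  have hle := C.le_finrank ρ hF hK hz
  rw [Module.finrank_fin_fun] at hle
  have hne : q ^ 5 + q ≠ k + q ^ 3 + 1 := by
    intro he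
    haveI := hρ
    have hd : k ∣ Nat.card ↥(tw σ).fix := by
      have := CfsgLib.CharsMore.finrank_dvd_index_of_scalars ρ (⊥ : Subgroup ↥(tw σ).fix)
        (fun z hz => ⟨1, by rw [Subgroup.mem_bot.1 hz, map_one, one_smul]⟩)
      rwa [Module.finrank_fin_fun, Subgroup.index_bot] at this
    rw [(orders hσ hK).2] at hd
    refine not_dvd_order hq (dvd_trans ?_ hd)
    obtain ⟨p, rfl⟩ : ∃ p, q = p + 1 := ⟨q - 1, by omega⟩
    exact ⟨p, by ring_nf at he ⊢; omega⟩
  have e : q * (q ^ 4 - q ^ 2 + 1) + q ^ 3 = q ^ 5 + q := by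
    rw [show q ^ 3 = q * q ^ 2 by ring, ← Nat.mul_add,
      show q ^ 4 - q ^ 2 + 1 + q ^ 2 = q ^ 4 + 1 by
        have := Nat.pow_le_pow_right (show 0 < q by omega) (show 2 ≤ 4 by norm_num)
        omega]
    ring
  omega

end CfsgLib.CharsMore.D4MinDeg
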