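import Mathlib

/-!
# The fixed field of a power map on a finite field: trace and norm onto it
-/

set_option autoImplicit false

namespace CfsgLib.CharsMore.D4MinDeg

variable {K : Type*} [Field K]

/-- the fixed field -/
abbrev fixF (σ : K →+* K) : Subfield K := RingHom.eqLocusField σ (RingHom.id K)

lemma mem_fixF {σ : K →+* K} {x : K} : x ∈ fixF σ ↔ σ x = x := Iff.rfl

variable [Fintype K] {q : ℕ} {σ : K →+* K}

lemma exists_trace_ne_zero (hσ : ∀ x, σ x = x ^ q) (hq : 2 ≤ q) (hK : Fintype.card K = q ^ 3) :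
    ∃ x : K, x + σ x + σ (σ x) ≠ 0 := by
  classical
  by_contra h
  push Not at h
  let p : Polynomial K := Polynomial.X + Polynomial.X ^ q + Polynomial.X ^ (q * q)
  have hp : p ≠ 0 := by
    intro h0
    have := congrArg (fun p => Polynomial.coeff p 1) h0
    simp [p, Polynomial.coeff_X_pow, show 1 ≠ q by omega, show 1 ≠ q * q by nlinarith] at this
  have hdeg : p.natDegree ≤ q * q := by
    refine (Polynomial.natDegree_add_le _ _).trans (max_le ((Polynomial.natDegree_add_le _ _).trans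
      (max_le ?_ ?_)) ?_) <;> simp <;> nlinarith
  have hroots : ∀ x : K, x ∈ p.roots := fun x => by
    rw [Polynomial.mem_roots hp]
    simpa [p, Polynomial.IsRoot, hσ, ← pow_mul] using h x
  have hcard := Finset.card_le_card (show (Finset.univ : Finset K) ⊆ p.roots.toFinset from
    fun x _ => Multiset.mem_toFinset.2 (hroots x))
  rw [Finset.card_univ, hK] at hcard
  have := hcard.trans ((Multiset.toFinset_card_le _).trans ((Polynomial.card_roots' p).trans hdeg))
  nlinarith [show q * q < q ^ 3 by nlinarith [sq_nonneg q]]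

lemma norm_eq_pow (hσ : ∀ x, σ x = x ^ q) (x : K) :
    x * σ x * σ (σ x) = x ^ (1 + q + q * q) := by
  rw [hσ, hσ, ← pow_mul, pow_add, pow_add, pow_one]

lemma exists_norm_eq (hσ : ∀ x, σ x = x ^ q) (hq : 2 ≤ q) (hK : Fintype.card K = q ^ 3) {μ : K}
    (hμ : σ μ = μ) : ∃ t, t * σ t * σ (σ t) = μ := by
  simp only [norm_eq_pow hσ]
  rcases eq_or_ne μ 0 with rfl | h0
  · exact ⟨0, zero_pow (by omega)⟩
  obtain ⟨u, hu⟩ := IsCyclic.exists_generator (α := Kˣ)
  have ho : orderOf u = q ^ 3 - 1 := by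
    rw [orderOf_eq_card_of_forall_mem_zpowers hu, Nat.card_units, Nat.card_eq_fintype_card, hK]
  obtain ⟨i, hi⟩ := (mem_powers_iff_mem_zpowers).2 (hu (Units.mk0 μ h0))
  obtain ⟨m, rfl⟩ : ∃ m, q = m + 2 := ⟨q - 2, by omega⟩
  have h1 : (u : Kˣ) ^ (i * (m + 1)) = 1 := by
    have hi' : u ^ i = Units.mk0 μ h0 := hi
    rw [pow_mul, hi']
    refine Units.ext (mul_right_cancel₀ h0 ?_)
    show μ ^ (m + 1) * μ = 1 * μ
    rw [one_mul, ← pow_succ, ← hσ, hμ]
  have hd := orderOf_dvd_of_pow_eq_one h1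
  rw [ho, show (m + 2) ^ 3 - 1 = (1 + (m + 2) + (m + 2) * (m + 2)) * (m + 1) by
    refine Nat.sub_eq_of_eq_add ?_; ring] at hd
  obtain ⟨j, hj⟩ := Nat.dvd_of_mul_dvd_mul_right (by omega) hd
  refine ⟨((u ^ j : Kˣ) : K), ?_⟩
  rw [← Units.val_pow_eq_pow_val, ← pow_mul, mul_comm, ← hj, show u ^ i = Units.mk0 μ h0 from hi]
  rfl

lemma exists_norm_one (hσ : ∀ x, σ x = x ^ q) (hq : 2 ≤ q) (hK : Fintype.card K = q ^ 3) :
    ∃ c : K, c * σ c * σ (σ c) = 1 ∧ c * c ≠ 1 := by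
  obtain ⟨u, hu⟩ := IsCyclic.exists_generator (α := Kˣ)
  have ho : orderOf u = q ^ 3 - 1 := by
    rw [orderOf_eq_card_of_forall_mem_zpowers hu, Nat.card_units, Nat.card_eq_fintype_card, hK]
  obtain ⟨m, rfl⟩ : ∃ m, q = m + 2 := ⟨q - 2, by omega⟩
  have he : (m + 2) ^ 3 - 1 = (1 + (m + 2) + (m + 2) * (m + 2)) * (m + 1) := by
    refine Nat.sub_eq_of_eq_add ?_; ring
  refine ⟨((u ^ (m + 1) : Kˣ) : K), ?_, fun h => ?_⟩
  · rw [norm_eq_pow hσ, ← Units.val_pow_eq_pow_val, ← pow_mul, mul_comm, ← he, ← ho,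
      pow_orderOf_eq_one, Units.val_one]
  · rw [← Units.val_mul, Units.val_eq_one, ← pow_add] at h
    have := Nat.le_of_dvd (by omega) (orderOf_dvd_of_pow_eq_one h)
    rw [ho, he] at this
    nlinarith

end CfsgLib.CharsMore.D4MinDeg
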