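import Cfsg.Agent.Lib.CharsMore.D4MinDeg.Roots

/-!
# The torus and two Weyl elements acting on the fixed root elements
-/

set_option autoImplicit false
set_option maxRecDepth 100000

namespace CfsgLib.CharsMore.D4MinDeg

open Cfsg.Lie Matrix CfsgLib.Chev CfsgLib.Chev.D43 CfsgLib.Chev.D43Mult

variable {K : Type*} [Field K] {σ : K →+* K}

local notation "g₄" => stdD4.good

/-- torus elements -/
noncomputable abbrev hT (σ : K →+* K) (u c : Kˣ) : GL chevD4.Idx K := tor chevD4 auxD4 (cv σ u c)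

lemma cart_more : ∀ p ∈ [((16 : ℕ), ![(-1 : ℤ), 1, 1, -1]), (15, ![-1, 1, -1, 1]), (20, ![1, 0, -1, 1]),
    (21, ![1, 0, 1, -1])], ∀ i : Fin 4, auxD4.cart i.val p.1 = p.2 i := by
  decide +kernel

lemma hT_conj {r : ℕ} (hr : r < chevD4.nroots) (u c : Kˣ) (t : K) :
    hT σ u c * xG g₄ r t = xG g₄ r (D43Mult.wt σ u c r * t) * hT σ u c :=
  mul_inv_eq_iff_eq_mul.1 (tor_conj_xG g₄ (cv σ u c) hr t)

lemma in_range : ∀ r ∈ [14, 15, 16, 17, 19, 20, 21, 22, 23], r < chevD4.nroots := by decide +kernel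

lemma hT_z (u c : Kˣ) (x : K) : hT σ u c * xG g₄ 23 x = xG g₄ 23 ((u : K) * x) * hT σ u c := by
  rw [hT_conj (in_range _ (by simp)), wt_23]

lemma hT_d (u c : Kˣ) (x : K) :
    hT σ u c * xG g₄ 22 x = xG g₄ 22 (nm3 σ (c : K) / u * x) * hT σ u c := by
  rw [hT_conj (in_range _ (by simp)), wt_22]; rfl

lemma hT_a (u c : Kˣ) (x : K) :
    hT σ u c * xG g₄ 14 x = xG g₄ 14 ((u : K) ^ 2 / nm3 σ (c : K) * x) * hT σ u c := by
  rw [hT_conj (in_range _ (by simp)), wt_14]; rfl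

lemma mul_three {G : Type*} [Group G] {g a b c a' b' c' : G} (ha : g * a = a' * g) (hb : g * b = b' * g)
    (hc : g * c = c' * g) : g * (a * b * c) = a' * b' * c' * g := by
  rw [← mul_assoc, ← mul_assoc, ha, mul_assoc a', hb, ← mul_assoc a', mul_assoc (a' * b'), hc]
  group

lemma hT_c (hinv : ∀ x, σ (σ (σ x)) = x) (u c : Kˣ) (y : K) :
    hT σ u c * cG σ y = cG σ (σ c * σ (σ c) / c * y) * hT σ u c := by
  rw [cG, cG]
  refine mul_three ?_ ?_ ?_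
  · rw [hT_conj (in_range _ (by simp)), wt_17]
  · rw [hT_conj (in_range _ (by simp)), D43Mult.wt, chi_cv u c (cart_more (20, ![1, 0, -1, 1]) (by simp))]
    simp [map_mul, map_div₀, hinv, div_eq_mul_inv]
    congr 1
    ring
  · rw [hT_conj (in_range _ (by simp)), D43Mult.wt, chi_cv u c (cart_more (21, ![1, 0, 1, -1]) (by simp))]
    simp [map_mul, map_div₀, hinv, div_eq_mul_inv]

lemma hT_b (hinv : ∀ x, σ (σ (σ x)) = x) (u c : Kˣ) (hu : σ (u : K) = u) (y : K) :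
    hT σ u c * bG σ y = bG σ ((c : K) * u / (σ c * σ (σ c)) * y) * hT σ u c := by
  rw [bG, bG]
  refine mul_three ?_ ?_ ?_
  · rw [hT_conj (in_range _ (by simp)), wt_19]
  · rw [hT_conj (in_range _ (by simp)), D43Mult.wt, chi_cv u c (cart_more (16, ![-1, 1, 1, -1]) (by simp))]
    simp [map_mul, map_div₀, hinv, hu, div_eq_mul_inv]
    congr 1
    ring
  · rw [hT_conj (in_range _ (by simp)), D43Mult.wt, chi_cv u c (cart_more (15, ![-1, 1, -1, 1]) (by simp))]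
    simp [map_mul, map_div₀, hinv, hu, div_eq_mul_inv]
    congr 1
    ring

/-- the Weyl element of the short simple orbit -/
noncomputable abbrev n3 (F : Type*) [Field F] : GL chevD4.Idx F :=
  nS F g₄ 0 * (nS F g₄ 2 * nS F g₄ 3)

lemma refl_data : ∀ p ∈ [((3 : ℕ), (23 : ℕ), (23 : ℕ), (1 : ℤ)), (2, 23, 23, 1), (0, 23, 23, 1),
    (3, 22, 21, -1), (2, 21, 19, -1), (0, 19, 14, 1), (3, 14, 15, 1), (2, 15, 17, 1), (0, 17, 22, -1),
    (1, 23, 22, -1)],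
    (p.1 < chevD4.rank ∧ p.2.1 < chevD4.nroots ∧ auxD4.refl p.1 p.2.1 = p.2.2.1 ∧
      auxD4.eta p.1 p.2.1 = p.2.2.2) := by
  decide +kernel

lemma nS_move {i r s : ℕ} {z : ℤ}
    (h : i < chevD4.rank ∧ r < chevD4.nroots ∧ auxD4.refl i r = s ∧ auxD4.eta i r = z) (t : K) :
    nS K g₄ i * xG g₄ r t = xG g₄ s ((z : K) * t) * nS K g₄ i := by
  obtain ⟨h1, h2, h3, h4⟩ := h
  rw [← h3, ← h4, ← nS_conj_xG g₄ h1 h2 t]
  group

lemma n3_move {r s w v : ℕ} {a b c : ℤ}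
    (h3 : 3 < chevD4.rank ∧ r < chevD4.nroots ∧ auxD4.refl 3 r = s ∧ auxD4.eta 3 r = a)
    (h2 : 2 < chevD4.rank ∧ s < chevD4.nroots ∧ auxD4.refl 2 s = w ∧ auxD4.eta 2 s = b)
    (h0 : 0 < chevD4.rank ∧ w < chevD4.nroots ∧ auxD4.refl 0 w = v ∧ auxD4.eta 0 w = c) (t : K) :
    n3 K * xG g₄ r t = xG g₄ v ((c : K) * ((b : K) * ((a : K) * t))) * n3 K := by
  rw [n3, mul_assoc, mul_assoc (nS K g₄ 2), nS_move h3, ← mul_assoc (nS K g₄ 2), nS_move h2,
    mul_assoc (xG g₄ w _), ← mul_assoc (nS K g₄ 0), nS_move h0, mul_assoc]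

lemma n3_z (x : K) : n3 K * xG g₄ 23 x = xG g₄ 23 x * n3 K := by
  rw [n3_move (refl_data (3, 23, 23, 1) (by simp)) (refl_data (2, 23, 23, 1) (by simp))
    (refl_data (0, 23, 23, 1) (by simp))]
  simp

lemma n3_a (x : K) : n3 K * xG g₄ 14 x = xG g₄ 22 (-x) * n3 K := by
  rw [n3_move (refl_data (3, 14, 15, 1) (by simp)) (refl_data (2, 15, 17, 1) (by simp))
    (refl_data (0, 17, 22, -1) (by simp))]
  simp

lemma n3_d (x : K) : n3 K * xG g₄ 22 x = xG g₄ 14 x * n3 K := by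
  rw [n3_move (refl_data (3, 22, 21, -1) (by simp)) (refl_data (2, 21, 19, -1) (by simp))
    (refl_data (0, 19, 14, 1) (by simp))]
  simp

lemma n1_z (x : K) : nS K g₄ 1 * xG g₄ 23 x = xG g₄ 22 (-x) * nS K g₄ 1 := by
  rw [nS_move (refl_data (1, 23, 22, -1) (by simp))]
  simp

end CfsgLib.CharsMore.D4MinDeg
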