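import Cfsg.Agent.Lib.CharsMore.D4MinDeg.Abstract
import Cfsg.Agent.Lib.CharsMore.D4MinDeg.Fields
import Cfsg.Agent.Lib.CharsMore.D4MinDeg.Torus

/-!
# The relations inside the fixed group of the triality
-/

set_option autoImplicit false
set_option maxRecDepth 100000

namespace CfsgLib.CharsMore.D4MinDeg

open Cfsg.Lie Matrix CfsgLib.Chev CfsgLib.Chev.D43 CfsgLib.Chev.D43Mult

variable {K : Type*} [Field K] {σ : K →+* K} (hinv : ∀ x, σ (σ (σ x)) = x)

local notation "g₄" => stdD4.good

lemma maps_three (σ : K →+* K) (hinv : ∀ x, σ (σ (σ x)) = x) {r s u : ℕ}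
    (h : r < chevD4.nroots ∧ s < chevD4.nroots ∧ u < chevD4.nroots ∧ foldD43.r r = s ∧ foldD43.r s = u ∧
      foldD43.r u = r ∧ symD4a.e r = -1 ∧ symD4a.e s = 1 ∧ symD4a.e u = -1 ∧
      commPair chevD4 auxD4 r s = true ∧ commPair chevD4 auxD4 r u = true) (y : K) :
    xG g₄ r y * xG g₄ s (-σ y) * xG g₄ u (-σ (σ y)) ∈ (tw σ).fix := by
  obtain ⟨lr, ls, lu, hr, hs, hu, er, es, eu, c1, c2⟩ := h
  have h1 := Twist.Maps.mul _ (Twist.Maps.mul _ ((tw σ).maps_xG lr y) ((tw σ).maps_xG ls (-σ y)))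
    ((tw σ).maps_xG lu (-σ (σ y)))
  have p1 : ∀ t, (tw σ).phi r t = -σ t := fun t => by
    show (symD4a.e r : K) * σ t = _
    rw [er]; simp
  have p3 : ∀ t, (tw σ).phi u t = -σ t := fun t => by
    show (symD4a.e u : K) * σ t = _
    rw [eu]; simp
  rw [hr, hs, hu, p1, phi_eq es, p3, map_neg, map_neg, hinv, neg_neg] at h1
  have hc : Commute (xG g₄ r y) (xG g₄ s (-σ y) * xG g₄ u (-σ (σ y))) :=
    (commute_xG stdD4 c1 _ _).mul_right (commute_xG stdD4 c2 _ _)
  rw [← hc.eq, ← mul_assoc] at h1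
  exact h1

include hinv in
lemma bG_mem (y : K) : bG σ y ∈ (tw σ).fix :=
  maps_three σ hinv (r := 19) (s := 16) (u := 15) (by decide +kernel) y

include hinv in
lemma cG_mem (y : K) : cG σ y ∈ (tw σ).fix :=
  maps_three σ hinv (r := 17) (s := 20) (u := 21) (by decide +kernel) y

include hinv in
lemma wG_mem (y : K) : wG σ y ∈ (tw σ).fix :=
  fix_trip (r := d4p1) (s := d4p3) (u := d4p4) (by simp) hinv y

lemma fixed_data : ∀ r ∈ [14, 22, 23], r < chevD4.nroots ∧ foldD43.r r = r ∧ symD4a.e r = 1 := by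
  decide +kernel

lemma root_mem {r : ℕ} (h : r ∈ [14, 22, 23]) {t : K} (ht : σ t = t) : xG g₄ r t ∈ (tw σ).fix := by
  obtain ⟨h1, h2, h3⟩ := fixed_data r h
  exact fix_root h1 h2 h3 ht

include hinv in
lemma hT_mem (u c : Kˣ) (hu : σ (u : K) = u) : hT σ u c ∈ (tw σ).fix := by
  have h : cv σ u c ∈ (tw σ).thetaFix := (thetaFix_iff _).2 ⟨hinv _, hu, rfl, rfl⟩
  rw [Twist.tor_mem_fix_iff, (Twist.mem_thetaFix _).1 h]

/-- the roots of fixed roots, as characters -/
noncomputable def fixE (r : ℕ) (h : r ∈ [14, 22, 23]) : AddChar (fixF σ) ↥(tw σ).fix where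
  toFun t := ⟨xG g₄ r (t : K), root_mem h t.2⟩
  map_zero_eq_one' := Subtype.ext (by simp [xG_zero])
  map_add_eq_mul' a b := Subtype.ext (by simp [xG_add])

lemma fixE_val (r : ℕ) (h : r ∈ [14, 22, 23]) (t : fixF σ) :
    ((fixE (σ := σ) r h t : ↥(tw σ).fix) : GL chevD4.Idx K) = xG g₄ r (t : K) := rfl

/-- the short orbit above `α₂`, as a character -/
noncomputable def bChar : AddChar K ↥(tw σ).fix where
  toFun y := ⟨bG σ y, bG_mem hinv y⟩
  map_zero_eq_one' := Subtype.ext bG_zero
  map_add_eq_mul' a b := Subtype.ext (bG_add a b)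

/-- the short orbit below the highest root, as a character -/
noncomputable def cChar : AddChar K ↥(tw σ).fix where
  toFun y := ⟨cG σ y, cG_mem hinv y⟩
  map_zero_eq_one' := Subtype.ext cG_zero
  map_add_eq_mul' a b := Subtype.ext (cG_add a b)

/-- the short simple orbit, as a character -/
noncomputable def wChar : AddChar K ↥(tw σ).fix where
  toFun y := ⟨wG σ y, wG_mem hinv y⟩
  map_zero_eq_one' := Subtype.ext wG_zero
  map_add_eq_mul' a b := Subtype.ext (wG_add a b)

include hinv in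
lemma tr3_fixed (y : K) : σ (tr3 σ y) = tr3 σ y := by
  simp only [tr3, map_add, hinv]; ring

/-- minus the trace of a product -/
noncomputable def pair : K →+ K →+ fixF σ :=
  AddMonoidHom.mk' (fun t => AddMonoidHom.mk'
      (fun w => (⟨-tr3 σ (t * w), mem_fixF.2 (by rw [map_neg, tr3_fixed hinv])⟩ : fixF σ))
      fun a b => Subtype.ext (by
        show -tr3 σ (t * (a + b)) = -tr3 σ (t * a) + -tr3 σ (t * b)
        simp only [tr3, mul_add, map_add]; ring))
    fun a b => AddMonoidHom.ext fun w => Subtype.ext (by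
      show -tr3 σ ((a + b) * w) = -tr3 σ (a * w) + -tr3 σ (b * w)
      simp only [tr3, add_mul, map_add]; ring)

lemma pair_val (t w : K) : ((pair hinv t w : fixF σ) : K) = -tr3 σ (t * w) := rfl

variable {q : ℕ} [Fintype K]

include hinv in
lemma pair_surj (hσ : ∀ x, σ x = x ^ q) (hq : 2 ≤ q) (hK : Fintype.card K = q ^ 3) {y : K}
    (hy : y ≠ 0) : Function.Surjective (pair hinv y) := by
  intro v
  obtain ⟨x, hx⟩ := exists_trace_ne_zero hσ hq hK
  set l := -(v : K) / tr3 σ x
  have hl : σ l = l := by rw [map_div₀, map_neg, tr3_fixed hinv, show σ (v : K) = v from v.2]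
  refine ⟨l * x / y, Subtype.ext ?_⟩
  rw [pair_val, mul_div_cancel₀ _ hy]
  simp only [tr3, map_mul, hl]
  rw [← mul_add, ← mul_add, show l = -(v : K) / tr3 σ x from rfl, tr3, div_mul_cancel₀ _ hx, neg_neg]

/-- the configuration in the fixed group -/
noncomputable def cfg (hσ : ∀ x, σ x = x ^ q) (hq : 2 ≤ q) (hK : Fintype.card K = q ^ 3) :
    Cfg (fixF σ) K ↥(tw σ).fix where
  zE := fixE 23 (by simp)
  dE := fixE 22 (by simp)
  aE := fixE 14 (by simp)
  cE := cChar hinv
  bE := bChar hinv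
  wE := wChar hinv
  z_d x y := Subtype.ext (cm (r := 23) (s := 22) _ _).eq
  z_a x y := Subtype.ext (cm (r := 23) (s := 14) _ _).eq
  z_c x y := Subtype.ext (((cm (r := 23) (s := 17) _ _).mul_right (cm (r := 23) (s := 20) _ _)).mul_right
    (cm (r := 23) (s := 21) _ _)).eq
  z_b x y := Subtype.ext (((cm (r := 23) (s := 19) _ _).mul_right (cm (r := 23) (s := 16) _ _)).mul_right
    (cm (r := 23) (s := 15) _ _)).eq
  z_w x y := Subtype.ext (((cm (r := 23) (s := 18) _ _).mul_right (cm (r := 23) (s := 13) _ _)).mul_right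
    (cm (r := 23) (s := 12) _ _)).eq
  d_c x y := Subtype.ext (((cm (r := 22) (s := 17) _ _).mul_right (cm (r := 22) (s := 20) _ _)).mul_right
    (cm (r := 22) (s := 21) _ _)).eq
  d_b x y := Subtype.ext (((cm (r := 22) (s := 19) _ _).mul_right (cm (r := 22) (s := 16) _ _)).mul_right
    (cm (r := 22) (s := 15) _ _)).eq
  d_w x y := Subtype.ext (((cm (r := 22) (s := 18) _ _).mul_right (cm (r := 22) (s := 13) _ _)).mul_right
    (cm (r := 22) (s := 12) _ _)).eq
  a_c x y := Subtype.ext (((cm (r := 14) (s := 17) _ _).mul_right (cm (r := 14) (s := 20) _ _)).mul_right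
    (cm (r := 14) (s := 21) _ _)).eq
  a_d x y := Subtype.ext (a_d (x : K) (y : K))
  P := pair hinv
  P_surj y hy := pair_surj hinv hσ hq hK hy
  b_c y w := Subtype.ext (b_c y w)
  L := pair hinv
  L_surj y hy := pair_surj hinv hσ hq hK hy
  w_c t w := Subtype.ext (w_c t w)
  w_a μ := by
    obtain ⟨t, ht⟩ := exists_norm_eq hσ hq hK (show σ (μ : K) = μ from μ.2)
    refine ⟨t, fun x => ⟨t * x, σ t * σ (σ t) * x,
      -(μ * x * x) - pair hinv (t * x) (σ t * σ (σ t) * x) - x * (μ * x), ?_⟩⟩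
    have main : fixE 14 (by simp) x * wChar hinv t = wChar hinv t * (fixE 22 (by simp) (μ * x) *
        cChar hinv (σ t * σ (σ t) * x) * fixE 23 (by simp) (-(μ * x * x)) * bChar hinv (t * x) *
        fixE 14 (by simp) x) :=
      Subtype.ext (by
        show xG g₄ 14 (x : K) * wG σ t = wG σ t * _
        rw [a_w hinv t (show σ (x : K) = x from x.2),
          show nm3 σ t = (μ : K) from ht]
        rfl)
    rw [main]
    congr 1
    set Z : AddChar (fixF σ) ↥(tw σ).fix := fixE 23 (by simp)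
    set D : AddChar (fixF σ) ↥(tw σ).fix := fixE 22 (by simp)
    set A : AddChar (fixF σ) ↥(tw σ).fix := fixE 14 (by simp)
    set d := μ * x
    set c := σ t * σ (σ t) * (x : K)
    set b := t * (x : K)
    have zc : ∀ z y, Commute (Z z) (cChar hinv y) := fun z y => Subtype.ext
      (((cm (r := 23) (s := 17) _ _).mul_right (cm (r := 23) (s := 20) _ _)).mul_right
        (cm (r := 23) (s := 21) _ _)).eq
    have zb : ∀ z y, Commute (Z z) (bChar hinv y) := fun z y => Subtype.ext
      (((cm (r := 23) (s := 19) _ _).mul_right (cm (r := 23) (s := 16) _ _)).mul_right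
        (cm (r := 23) (s := 15) _ _)).eq
    have za : ∀ z y, Commute (Z z) (A y) := fun z y => Subtype.ext (cm (r := 23) (s := 14) _ _).eq
    have dc : ∀ z y, Commute (D z) (cChar hinv y) := fun z y => Subtype.ext
      (((cm (r := 22) (s := 17) _ _).mul_right (cm (r := 22) (s := 20) _ _)).mul_right
        (cm (r := 22) (s := 21) _ _)).eq
    have db : ∀ z y, Commute (D z) (bChar hinv y) := fun z y => Subtype.ext
      (((cm (r := 22) (s := 19) _ _).mul_right (cm (r := 22) (s := 16) _ _)).mul_right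
        (cm (r := 22) (s := 15) _ _)).eq
    have ac : Commute (A x) (cChar hinv c) := Subtype.ext
      (((cm (r := 14) (s := 17) _ _).mul_right (cm (r := 14) (s := 20) _ _)).mul_right
        (cm (r := 14) (s := 21) _ _)).eq
    have ab : Commute (A x) (bChar hinv b) := Subtype.ext
      (((cm (r := 14) (s := 19) _ _).mul_right (cm (r := 14) (s := 16) _ _)).mul_right
        (cm (r := 14) (s := 15) _ _)).eq
    have bc : bChar hinv b * cChar hinv c = cChar hinv c * Z (pair hinv b c) * bChar hinv b :=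
      Subtype.ext (b_c b c)
    have ad : A x * D d = D d * Z (x * d) * A x := Subtype.ext (D4MinDeg.a_d (x : K) (d : K))
    symm
    calc A x * bChar hinv b * cChar hinv c * D d * Z (-(d * x) - pair hinv b c - x * d)
        = bChar hinv b * (A x * cChar hinv c) * D d * Z (-(d * x) - pair hinv b c - x * d) := by
          rw [ab.eq]; group
      _ = bChar hinv b * cChar hinv c * (A x * D d) * Z (-(d * x) - pair hinv b c - x * d) := by
          rw [ac.eq]; group
      _ = bChar hinv b * cChar hinv c * D d * Z (x * d) *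
            (A x * Z (-(d * x) - pair hinv b c - x * d)) := by rw [ad]; group
      _ = bChar hinv b * cChar hinv c * D d * (Z (x * d) * Z (-(d * x) - pair hinv b c - x * d)) *
            A x := by rw [← (za _ _).eq]; group
      _ = cChar hinv c * Z (pair hinv b c) * (bChar hinv b * D d) *
            Z (-(d * x) - pair hinv b c) * A x := by
          rw [← AddChar.map_add_eq_mul, bc]
          rw [show x * d + (-(d * x) - pair hinv b c - x * d) = -(d * x) - pair hinv b c by ring]
          group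
      _ = cChar hinv c * (Z (pair hinv b c) * D d) * (bChar hinv b * Z (-(d * x) - pair hinv b c)) *
            A x := by rw [← (db _ _).eq]; group
      _ = (cChar hinv c * D d) * (Z (pair hinv b c) * Z (-(d * x) - pair hinv b c)) * bChar hinv b *
            A x := by
          rw [← (zb _ _).eq, show Z (pair hinv b c) * D d = D d * Z (pair hinv b c) from
            Subtype.ext (cm (r := 23) (s := 22) _ _).eq]
          group
      _ = _ := by
          rw [← AddChar.map_add_eq_mul, add_sub_cancel, ← (dc _ _).eq]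
  h l hl := by
    have hu : (l : K) ≠ 0 := fun e => hl (Subtype.ext e)
    refine ⟨⟨hT σ (Units.mk0 _ hu) 1, hT_mem hinv _ _ l.2⟩, fun x => Subtype.ext ?_,
      fun y => Subtype.ext ?_, fun w => Subtype.ext ?_⟩
    · exact hT_z _ _ _
    · show hT σ _ 1 * xG g₄ 22 (y : K) = _
      rw [hT_d]
      simp [fixE_val, nm3, div_eq_mul_inv]
    · show hT σ _ 1 * cG σ w = cG σ w * hT σ _ 1
      rw [hT_c hinv]
      simp
  hscale μ hμ := by
    obtain ⟨c, hc⟩ := exists_norm_eq hσ hq hK (show σ (μ : K) = μ from μ.2)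
    have hu : c ≠ 0 := fun e => hμ (Subtype.ext (by simpa [e] using hc.symm))
    refine ⟨⟨hT σ 1 (Units.mk0 c hu), hT_mem hinv _ _ σ.map_one⟩, fun x => Subtype.ext ?_,
      fun y => Subtype.ext ?_, fun x => Subtype.ext ?_⟩
    · show hT σ 1 _ * xG g₄ 23 (x : K) = _
      rw [hT_z]; simp [fixE_val]
    · show hT σ 1 _ * xG g₄ 22 (y : K) = _
      rw [hT_d]; simp [fixE_val, nm3, hc]
    · show hT σ 1 _ * xG g₄ 14 (x : K) = _
      rw [hT_a]; simp [fixE_val, nm3, hc]
  hsq := by
    let hex := exists_norm_one hσ hq hK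
    obtain ⟨c, hc, hc2⟩ := hex
    have hu : c ≠ 0 := by rintro rfl; simp at hc
    have hden : c / (σ c * σ (σ c)) = c * c := by
      rw [show σ c * σ (σ c) = c⁻¹ from eq_inv_of_mul_eq_one_right (by rw [← mul_assoc]; exact hc),
        div_inv_eq_mul]
    refine ⟨⟨hT σ 1 (Units.mk0 c hu), hT_mem hinv _ _ σ.map_one⟩, c * c, hc2,
      fun x => Subtype.ext ?_, fun y => Subtype.ext ?_, fun w => ⟨c / (σ c * σ (σ c)) * w, Subtype.ext ?_⟩,
      fun y => Subtype.ext ?_⟩
    · show xG g₄ 23 (x : K) * hT σ 1 _ = hT σ 1 _ * xG g₄ 23 (x : K)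
      rw [hT_z]; simp
    · show xG g₄ 22 (y : K) * hT σ 1 _ = hT σ 1 _ * xG g₄ 22 (y : K)
      rw [hT_d]; simp [nm3, hc]
    · show cG σ w * hT σ 1 _ = hT σ 1 _ * cG σ _
      rw [hT_c hinv, Units.val_mk0]
      congr 2
      have : σ c * σ (σ c) ≠ 0 := mul_ne_zero ((map_ne_zero σ).2 hu) ((map_ne_zero σ).2 ((map_ne_zero σ).2 hu))
      rw [← mul_assoc, div_mul_div_comm, mul_comm _ c, div_self (mul_ne_zero hu this), one_mul]
    · show hT σ 1 _ * bG σ y = bG σ (c * c * y) * hT σ 1 _
      rw [hT_b hinv _ _ (by simp), Units.val_mk0, Units.val_one, mul_one, hden]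
  nJ := by
    have hm : n3 K ∈ (tw σ).fix := by
      have h := twisted_le_fix hσ hK (nJ_mem hσ 1 (by decide))
      rw [show (tw σ).nJ 1 = nW K g₄ [0, 2, 3] from rfl] at h
      simpa [n3, nW] using h
    refine ⟨⟨n3 K, hm⟩, fun x => Subtype.ext ?_, fun y => Subtype.ext ?_, fun x => Subtype.ext ?_⟩
    · exact (n3_z (x : K)).symm
    · show xG g₄ 22 (y : K) * n3 K = n3 K * xG g₄ 14 (-(y : K))
      rw [n3_a, neg_neg]
    · exact (n3_d (x : K)).symm
  n2 := by
    have hm : nS K g₄ 1 ∈ (tw σ).fix := by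
      have h := twisted_le_fix hσ hK (nJ_mem hσ 0 (by decide))
      rw [show (tw σ).nJ 0 = nW K g₄ [1] from rfl] at h
      simpa [nW] using h
    exact ⟨⟨nS K g₄ 1, hm⟩, fun x => Subtype.ext (n1_z (x : K))⟩

end CfsgLib.CharsMore.D4MinDeg
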