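import Cfsg.Agent.Lib.Chev.D43Mult.Torus

/-!
# Relations between the fixed root elements of a triality twisted group
-/

set_option autoImplicit false
set_option maxRecDepth 100000

namespace CfsgLib.CharsMore.D4MinDeg

open Cfsg.Lie Matrix CfsgLib.Chev CfsgLib.Chev.D43

variable {K : Type*} [Field K] {σ : K →+* K}

local notation "g₄" => stdD4.good

/-- pairs whose sum is a root, with the sum and the sign -/
def sums : List (ℕ × ℕ × ℕ × ℤ) :=
  [(14, 12, 15, -1), (14, 13, 16, -1), (14, 18, 19, 1), (12, 16, 17, 1), (12, 19, 20, 1),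
   (13, 19, 21, 1), (12, 21, 22, 1), (13, 20, 22, 1), (18, 17, 22, -1), (14, 22, 23, 1),
   (15, 21, 23, -1), (16, 20, 23, -1), (19, 17, 23, -1)]

lemma sums_ok : ∀ p ∈ sums, auxD4.terms p.1 p.2.1 = [(p.2.2.1, p.2.2.2, 1, 1)] := by decide +kernel

lemma tm {r s w : ℕ} {z : ℤ} (h : sums.contains (r, s, w, z) = true := by decide) :
    auxD4.terms r s = [(w, z, 1, 1)] :=
  sums_ok _ (List.contains_iff_mem.1 h)

/-- pairs of commuting roots -/
def cps : List (ℕ × ℕ) :=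
  [(23, 22), (23, 14), (23, 12), (23, 13), (23, 18), (23, 15), (23, 16), (23, 19), (23, 17), (23, 20),
   (23, 21), (22, 12), (22, 13), (22, 18), (22, 15), (22, 16), (22, 19), (22, 17), (22, 20), (22, 21),
   (14, 15), (14, 16), (14, 19), (14, 17), (14, 20), (14, 21), (15, 16), (15, 19), (16, 19), (17, 20),
   (17, 21), (20, 21), (15, 17), (15, 20), (16, 17), (16, 21), (19, 20), (19, 21), (12, 17), (12, 20),
   (13, 17), (13, 21), (18, 20), (18, 21), (18, 13), (18, 12), (13, 12), (12, 15), (13, 16), (18, 19)]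

lemma cps_ok : ∀ p ∈ cps, commPair chevD4 auxD4 p.1 p.2 = true := by decide +kernel

lemma cm {r s : ℕ} (t u : K) (h : cps.contains (r, s) = true := by decide) :
    Commute (xG g₄ r t) (xG g₄ s u) :=
  commute_xG stdD4 (cps_ok _ (List.contains_iff_mem.1 h)) t u

/-- the conditions on a pair whose sum is a root -/
def okPair (r s : ℕ) : Bool := decide (r < 24 ∧ s < 24 ∧ 12 ≤ r ∧ 12 ≤ s ∧ r ≠ s)

lemma okPair_spec : ∀ r < 24, ∀ s < 24, okPair r s = true →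
    r < chevD4.nroots ∧ s < chevD4.nroots ∧ s ≠ r ∧ s ≠ auxD4.neg r := by
  decide +kernel

lemma swap_one {r s w : ℕ} {z : ℤ} (h : okPair r s = true) (hT : auxD4.terms r s = [(w, z, 1, 1)])
    (t u : K) :
    xG g₄ s u * xG g₄ r t = xG g₄ r t * xG g₄ s u * xG g₄ w (-(z : K) * (t * u)) := by
  obtain ⟨h1, h2, h3, h4⟩ := okPair_spec r (by simp [okPair] at h; omega) s
    (by simp [okPair] at h; omega) h
  rw [xG_swap stdD4 h1 h2 h3 h4 t u, hT]
  simp [mul_assoc]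

lemma pushR {r s w : ℕ} {z : ℤ} (h : okPair r s = true) (hT : auxD4.terms r s = [(w, z, 1, 1)])
    (hc : ∀ t u : K, Commute (xG g₄ w u) (xG g₄ r t)) (t u : K) :
    xG g₄ r t * xG g₄ s u = xG g₄ s u * xG g₄ w ((z : K) * (t * u)) * xG g₄ r t := by
  rw [mul_assoc (xG g₄ s u), (hc _ _).eq, ← mul_assoc, swap_one h hT, mul_assoc, xG_add]
  rw [show -(z : K) * (t * u) + (z : K) * (t * u) = 0 by ring, xG_zero, mul_one]

lemma pushS {r s w : ℕ} {z : ℤ} (h : okPair r s = true) (hT : auxD4.terms r s = [(w, z, 1, 1)])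
    (hc : ∀ t u : K, Commute (xG g₄ w u) (xG g₄ s t)) (t u : K) :
    xG g₄ s u * xG g₄ r t = xG g₄ r t * xG g₄ w (-(z : K) * (t * u)) * xG g₄ s u := by
  rw [swap_one h hT, mul_assoc (xG g₄ r t), ← (hc _ _).eq, mul_assoc]

variable (σ) in
/-- the short orbit above `α₂` -/
noncomputable def bG (y : K) : GL chevD4.Idx K :=
  xG g₄ 19 y * xG g₄ 16 (-σ y) * xG g₄ 15 (-σ (σ y))

variable (σ) in
/-- the short orbit below the highest root -/
noncomputable def cG (y : K) : GL chevD4.Idx K :=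
  xG g₄ 17 y * xG g₄ 20 (-σ y) * xG g₄ 21 (-σ (σ y))

variable (σ) in
/-- the short simple orbit -/
noncomputable def wG (y : K) : GL chevD4.Idx K :=
  xG g₄ 18 y * xG g₄ 13 (σ y) * xG g₄ 12 (σ (σ y))

lemma mul3 {G : Type*} [Group G] {a b c a' b' c' : G} (h1 : Commute b a') (h2 : Commute c a')
    (h3 : Commute c b') : a * b * c * (a' * b' * c') = a * a' * (b * b') * (c * c') := by
  calc a * b * c * (a' * b' * c') = a * b * (c * a') * (b' * c') := by group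
    _ = a * (b * a') * (c * b') * c' := by rw [h2.eq]; group
    _ = _ := by rw [h1.eq, h3.eq]; group

lemma bG_add (y y' : K) : bG σ (y + y') = bG σ y * bG σ y' := by
  rw [bG, bG, bG, mul3 (cm (r := 16) (s := 19) _ _) (cm (r := 15) (s := 19) _ _)
    (cm (r := 15) (s := 16) _ _), xG_add, xG_add, xG_add]
  simp only [map_add, neg_add]

lemma cG_add (y y' : K) : cG σ (y + y') = cG σ y * cG σ y' := by
  rw [cG, cG, cG, mul3 (cm (r := 17) (s := 20) _ _).symm (cm (r := 17) (s := 21) _ _).symm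
    (cm (r := 20) (s := 21) _ _).symm, xG_add, xG_add, xG_add]
  simp only [map_add, neg_add]

lemma wG_add (y y' : K) : wG σ (y + y') = wG σ y * wG σ y' := by
  rw [wG, wG, wG, mul3 (cm (r := 18) (s := 13) _ _).symm (cm (r := 18) (s := 12) _ _).symm
    (cm (r := 13) (s := 12) _ _).symm, xG_add, xG_add, xG_add]
  simp only [map_add]

lemma bG_zero : bG σ 0 = 1 := by simp [bG, xG_zero]
lemma cG_zero : cG σ 0 = 1 := by simp [cG, xG_zero]
lemma wG_zero : wG σ 0 = 1 := by simp [wG, xG_zero]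

lemma a_d (x y : K) : xG g₄ 14 x * xG g₄ 22 y = xG g₄ 22 y * xG g₄ 23 (x * y) * xG g₄ 14 x := by
  rw [pushR (by decide) (tm (w := 23) (z := 1)) (fun t u => cm (r := 23) (s := 14) _ _)]
  simp

/-- a symmetric sum -/
def tr3 (σ : K →+* K) (y : K) : K := y + σ y + σ (σ y)

lemma chain3 {G : Type*} [Group G] {b₁ b₂ b₃ c₁ c₂ c₃ e₁ e₂ e₃ : G}
    (h1 : b₁ * c₁ = c₁ * e₁ * b₁) (h2 : b₂ * c₂ = c₂ * e₂ * b₂) (h3 : b₃ * c₃ = c₃ * e₃ * b₃)
    (n12 : Commute b₁ c₂) (n13 : Commute b₁ c₃) (n21 : Commute b₂ c₁) (n23 : Commute b₂ c₃)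
    (n31 : Commute b₃ c₁) (n32 : Commute b₃ c₂) (e12 : Commute e₁ c₂) (e13 : Commute e₁ c₃)
    (e23 : Commute e₂ c₃) (f13 : Commute b₁ e₃) (f23 : Commute b₂ e₃) (f12 : Commute b₁ e₂) :
    b₁ * b₂ * b₃ * (c₁ * c₂ * c₃) = c₁ * c₂ * c₃ * (e₁ * e₂ * e₃) * (b₁ * b₂ * b₃) := by
  calc b₁ * b₂ * b₃ * (c₁ * c₂ * c₃) = b₁ * b₂ * (b₃ * c₁) * c₂ * c₃ := by group
    _ = b₁ * b₂ * c₁ * (b₃ * c₂) * c₃ := by rw [n31.eq]; group
    _ = b₁ * b₂ * c₁ * c₂ * (b₃ * c₃) := by rw [n32.eq]; group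
    _ = b₁ * (b₂ * c₁) * c₂ * c₃ * e₃ * b₃ := by rw [h3]; group
    _ = b₁ * c₁ * (b₂ * c₂) * c₃ * e₃ * b₃ := by rw [n21.eq]; group
    _ = b₁ * c₁ * c₂ * e₂ * (b₂ * c₃) * e₃ * b₃ := by rw [h2]; group
    _ = b₁ * c₁ * c₂ * (e₂ * c₃) * (b₂ * e₃) * b₃ := by rw [n23.eq]; group
    _ = (b₁ * c₁) * c₂ * c₃ * e₂ * e₃ * b₂ * b₃ := by rw [e23.eq, f23.eq]; group
    _ = c₁ * e₁ * (b₁ * c₂) * c₃ * e₂ * e₃ * b₂ * b₃ := by rw [h1]; group
    _ = c₁ * e₁ * c₂ * (b₁ * c₃) * e₂ * e₃ * b₂ * b₃ := by rw [n12.eq]; group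
    _ = c₁ * (e₁ * c₂) * c₃ * (b₁ * e₂) * e₃ * b₂ * b₃ := by rw [n13.eq]; group
    _ = c₁ * c₂ * (e₁ * c₃) * e₂ * (b₁ * e₃) * b₂ * b₃ := by rw [e12.eq, f12.eq]; group
    _ = _ := by rw [e13.eq, f13.eq]; group

lemma b_c (y w : K) : bG σ y * cG σ w = cG σ w * xG g₄ 23 (-tr3 σ (y * w)) * bG σ y := by
  have T1 : auxD4.terms 15 21 = [(23, -1, 1, 1)] := tm
  have T2 : auxD4.terms 16 20 = [(23, -1, 1, 1)] := tm
  have T3 : auxD4.terms 19 17 = [(23, -1, 1, 1)] := tm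
  rw [bG, cG, chain3 (pushR (r := 19) (s := 17) (by decide) T3 (fun t u => cm (r := 23) (s := 19) _ _) _ _)
    (pushR (r := 16) (s := 20) (by decide) T2 (fun t u => cm (r := 23) (s := 16) _ _) _ _)
    (pushR (r := 15) (s := 21) (by decide) T1 (fun t u => cm (r := 23) (s := 15) _ _) _ _)
    (cm (r := 19) (s := 20) _ _) (cm (r := 19) (s := 21) _ _) (cm (r := 16) (s := 17) _ _)
    (cm (r := 16) (s := 21) _ _) (cm (r := 15) (s := 17) _ _) (cm (r := 15) (s := 20) _ _)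
    (cm (r := 23) (s := 20) _ _) (cm (r := 23) (s := 21) _ _) (cm (r := 23) (s := 21) _ _)
    (cm (r := 23) (s := 19) _ _).symm (cm (r := 23) (s := 16) _ _).symm
    (cm (r := 23) (s := 19) _ _).symm, xG_add, xG_add]
  congr 2
  congr 1
  simp [tr3, map_mul]
  ring

lemma w_c (t w : K) : wG σ t * cG σ w = cG σ w * xG g₄ 22 (-tr3 σ (t * w)) * wG σ t := by
  have T1 : auxD4.terms 12 21 = [(22, 1, 1, 1)] := tm
  have T2 : auxD4.terms 13 20 = [(22, 1, 1, 1)] := tm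
  have T3 : auxD4.terms 18 17 = [(22, -1, 1, 1)] := tm
  rw [wG, cG, chain3 (pushR (r := 18) (s := 17) (by decide) T3 (fun t u => cm (r := 22) (s := 18) _ _) _ _)
    (pushR (r := 13) (s := 20) (by decide) T2 (fun t u => cm (r := 22) (s := 13) _ _) _ _)
    (pushR (r := 12) (s := 21) (by decide) T1 (fun t u => cm (r := 22) (s := 12) _ _) _ _)
    (cm (r := 18) (s := 20) _ _) (cm (r := 18) (s := 21) _ _) (cm (r := 13) (s := 17) _ _)
    (cm (r := 13) (s := 21) _ _) (cm (r := 12) (s := 17) _ _) (cm (r := 12) (s := 20) _ _)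
    (cm (r := 22) (s := 20) _ _) (cm (r := 22) (s := 21) _ _) (cm (r := 22) (s := 21) _ _)
    (cm (r := 22) (s := 18) _ _).symm (cm (r := 22) (s := 13) _ _).symm
    (cm (r := 22) (s := 18) _ _).symm, xG_add, xG_add]
  congr 2
  congr 1
  simp [tr3, map_mul]
  ring

/-- the norm -/
def nm3 (σ : K →+* K) (t : K) : K := t * σ t * σ (σ t)

lemma c_rev (y : K) : xG g₄ 21 (-σ (σ y)) * xG g₄ 20 (-σ y) * xG g₄ 17 y = cG σ y := by
  rw [cG, ← (cm (r := 20) (s := 21) _ _).eq, mul_assoc, ← (cm (r := 17) (s := 21) _ _).eq,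
    ← mul_assoc, ← (cm (r := 17) (s := 20) _ _).eq]

lemma a_w (hinv : ∀ x, σ (σ (σ x)) = x) (t : K) {x : K} (hx : σ x = x) :
    xG g₄ 14 x * wG σ t = wG σ t * (xG g₄ 22 (nm3 σ t * x) * cG σ (σ t * σ (σ t) * x) *
      xG g₄ 23 (-(nm3 σ t * x * x)) * bG σ (t * x) * xG g₄ 14 x) := by
  have T15 : auxD4.terms 14 12 = [(15, -1, 1, 1)] := tm
  have T16 : auxD4.terms 14 13 = [(16, -1, 1, 1)] := tm
  have T19 : auxD4.terms 14 18 = [(19, 1, 1, 1)] := tm
  have T17 : auxD4.terms 12 16 = [(17, 1, 1, 1)] := tm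
  have T20 : auxD4.terms 12 19 = [(20, 1, 1, 1)] := tm
  have T21 : auxD4.terms 13 19 = [(21, 1, 1, 1)] := tm
  have T22 : auxD4.terms 12 21 = [(22, 1, 1, 1)] := tm
  have T23 : auxD4.terms 19 17 = [(23, -1, 1, 1)] := tm
  set a := t
  set b := σ t
  set c := σ (σ t)
  set y := b * c * x with hy
  have e14 := pushR (K := K) (r := 14) (s := 18) (by decide) T19
    (fun t u => (cm (r := 14) (s := 19) t u).symm) x a
  have e13 := pushR (K := K) (r := 14) (s := 13) (by decide) T16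
    (fun t u => (cm (r := 14) (s := 16) t u).symm) x b
  have e12 := pushR (K := K) (r := 14) (s := 12) (by decide) T15
    (fun t u => (cm (r := 14) (s := 15) t u).symm) x c
  have f1 := pushS (K := K) (r := 13) (s := 19) (by decide) T21
    (fun t u => (cm (r := 19) (s := 21) t u).symm) b (a * x)
  have f2 := pushS (K := K) (r := 12) (s := 16) (by decide) T17
    (fun t u => (cm (r := 16) (s := 17) t u).symm) c (-(b * x))
  have f3 := pushS (K := K) (r := 12) (s := 19) (by decide) T20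
    (fun t u => (cm (r := 19) (s := 20) t u).symm) c (a * x)
  have f4 := pushS (K := K) (r := 12) (s := 21) (by decide) T22
    (fun t u => cm (r := 22) (s := 21) _ _) c (-(a * b * x))
  have f5 := pushR (K := K) (r := 19) (s := 17) (by decide) T23
    (fun t u => cm (r := 23) (s := 19) _ _) (a * x) (b * c * x)
  simp only [Int.cast_one, Int.cast_neg, one_mul, neg_mul] at e14 e13 e12 f1 f2 f3 f4 f5
  rw [show x * a = a * x by ring] at e14
  rw [show -(x * b) = -(b * x) by ring] at e13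
  rw [show -(x * c) = -(c * x) by ring] at e12
  rw [show -(b * (a * x)) = -(a * b * x) by ring] at f1
  rw [show -(c * -(b * x)) = b * c * x by ring] at f2
  rw [show -(c * (a * x)) = -(a * c * x) by ring] at f3
  rw [show -(c * -(a * b * x)) = a * b * c * x by ring] at f4
  rw [show -(a * x * (b * c * x)) = -(a * b * c * x * x) by ring] at f5
  have hcy : cG σ y = xG g₄ 21 (-(a * b * x)) * xG g₄ 20 (-(a * c * x)) * xG g₄ 17 (b * c * x) := by
    have s1 : σ y = a * c * x := by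
      rw [hy, map_mul, map_mul, hx, hinv]; ring
    have s2 : σ (σ y) = a * b * x := by
      rw [s1, map_mul, map_mul, hx, hinv]; ring
    rw [← c_rev y, s2, s1]
  have hbb : bG σ (a * x) = xG g₄ 19 (a * x) * xG g₄ 16 (-(b * x)) * xG g₄ 15 (-(c * x)) := by
    rw [bG, map_mul, map_mul, hx, hx]
  rw [hcy, hbb]
  show xG g₄ 14 x * (xG g₄ 18 a * xG g₄ 13 b * xG g₄ 12 c) = xG g₄ 18 a * xG g₄ 13 b * xG g₄ 12 c * _
  calc xG g₄ 14 x * (xG g₄ 18 a * xG g₄ 13 b * xG g₄ 12 c)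
      = xG g₄ 14 x * xG g₄ 18 a * xG g₄ 13 b * xG g₄ 12 c := by group
    _ = xG g₄ 18 a * xG g₄ 19 (a * x) * (xG g₄ 14 x * xG g₄ 13 b) * xG g₄ 12 c := by rw [e14]; group
    _ = xG g₄ 18 a * (xG g₄ 19 (a * x) * xG g₄ 13 b) * xG g₄ 16 (-(b * x)) *
          (xG g₄ 14 x * xG g₄ 12 c) := by rw [e13]; group
    _ = xG g₄ 18 a * xG g₄ 13 b * xG g₄ 21 (-(a * b * x)) * xG g₄ 19 (a * x) *
          (xG g₄ 16 (-(b * x)) * xG g₄ 12 c) * xG g₄ 15 (-(c * x)) * xG g₄ 14 x := by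
          rw [f1, e12]; group
    _ = xG g₄ 18 a * xG g₄ 13 b * xG g₄ 21 (-(a * b * x)) * (xG g₄ 19 (a * x) * xG g₄ 12 c) *
          xG g₄ 17 (b * c * x) * xG g₄ 16 (-(b * x)) * xG g₄ 15 (-(c * x)) * xG g₄ 14 x := by
          rw [f2]; group
    _ = xG g₄ 18 a * xG g₄ 13 b * (xG g₄ 21 (-(a * b * x)) * xG g₄ 12 c) * xG g₄ 20 (-(a * c * x)) *
          (xG g₄ 19 (a * x) * xG g₄ 17 (b * c * x)) * xG g₄ 16 (-(b * x)) * xG g₄ 15 (-(c * x)) *
          xG g₄ 14 x := by rw [f3]; group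
    _ = _ := by
          rw [f4, f5]
          simp only [nm3, a, b, c]
          group

end CfsgLib.CharsMore.D4MinDeg
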