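import Mathlib

/-!
# Weights of a finite abelian group in a complex representation
-/

set_option autoImplicit false

namespace CfsgLib.CharsMore.D4MinDeg

open Module Finset

variable {M G V : Type*} [AddCommGroup M] [Fintype M] [Group G] [AddCommGroup V] [Module ℂ V]
  (ρ : Representation ℂ G V) (e : AddChar M G)

/-- the projection to a weight -/
noncomputable def wp (χ : AddChar M ℂ) : Module.End ℂ V :=
  (Fintype.card M : ℂ)⁻¹ • ∑ m, χ (-m) • ρ (e m)

lemma apply_mul_wp (χ : AddChar M ℂ) (m : M) : ρ (e m) * wp ρ e χ = χ m • wp ρ e χ := by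
  simp only [wp, mul_smul_comm, mul_sum, smul_comm (χ m), smul_sum]
  refine Fintype.sum_equiv (Equiv.addLeft m) _ _ fun x => ?_
  simp only [Equiv.coe_addLeft]
  rw [AddChar.map_add_eq_mul e, map_mul, smul_smul, smul_smul, smul_smul, mul_assoc,
    ← AddChar.map_add_eq_mul χ, show -(m + x) + m = -x by abel]

lemma sum_wp : ∑ χ, wp ρ e χ = 1 := by
  classical
  simp only [wp, ← smul_sum]
  rw [sum_comm, Finset.sum_eq_single (0 : M) (fun m _ hm => by
    rw [← sum_smul, AddChar.sum_apply_eq_ite, if_neg (neg_ne_zero.2 hm), zero_smul]) (by simp)]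
  rw [← sum_smul, AddChar.sum_apply_eq_ite, if_pos neg_zero, smul_smul,
    inv_mul_cancel₀ (Nat.cast_ne_zero.2 Fintype.card_ne_zero), one_smul, AddChar.map_zero_eq_one,
    map_one]

lemma wp_mul_self (χ : AddChar M ℂ) : wp ρ e χ * wp ρ e χ = wp ρ e χ := by
  conv_lhs => arg 1; rw [wp]
  rw [smul_mul_assoc, sum_mul]
  have : ∀ m, (χ (-m) • ρ (e m)) * wp ρ e χ = wp ρ e χ := fun m => by
    rw [smul_mul_assoc, apply_mul_wp, smul_smul, ← AddChar.map_add_eq_mul, neg_add_cancel,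
      AddChar.map_zero_eq_one, one_smul]
  rw [sum_congr rfl fun m _ => this m, sum_const, card_univ, ← Nat.cast_smul_eq_nsmul ℂ, smul_smul,
    inv_mul_cancel₀ (Nat.cast_ne_zero.2 Fintype.card_ne_zero), one_smul]

/-- the vectors of a weight -/
def IsWt (χ : AddChar M ℂ) (v : V) : Prop := ∀ m, ρ (e m) v = χ m • v

lemma isWt_wp (χ : AddChar M ℂ) (v : V) : IsWt ρ e χ (wp ρ e χ v) := fun m => by
  rw [← Module.End.mul_apply, apply_mul_wp]; rfl

lemma wp_apply {χ : AddChar M ℂ} {v : V} (h : IsWt ρ e χ v) : wp ρ e χ v = v := by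
  simp only [wp, LinearMap.smul_apply, LinearMap.sum_apply]
  have : ∀ m, χ (-m) • ρ (e m) v = v := fun m => by
    rw [h, smul_smul, ← AddChar.map_add_eq_mul, neg_add_cancel, AddChar.map_zero_eq_one, one_smul]
  rw [sum_congr rfl fun m _ => this m, sum_const, card_univ, ← Nat.cast_smul_eq_nsmul ℂ, smul_smul,
    inv_mul_cancel₀ (Nat.cast_ne_zero.2 Fintype.card_ne_zero), one_smul]

/-- the multiplicity of a weight -/
noncomputable def mult (χ : AddChar M ℂ) : ℕ := finrank ℂ (LinearMap.range (wp ρ e χ))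

variable [FiniteDimensional ℂ V]

lemma trace_wp (χ : AddChar M ℂ) : LinearMap.trace ℂ V (wp ρ e χ) = mult ρ e χ :=
  LinearMap.IsProj.trace (LinearMap.IsIdempotentElem.isProj_range _ (wp_mul_self ρ e χ))

lemma sum_mult : ∑ χ, mult ρ e χ = finrank ℂ V := by
  have h := congrArg (LinearMap.trace ℂ V) (sum_wp ρ e)
  rw [map_sum, Module.End.one_eq_id, LinearMap.trace_id] at h
  simp only [trace_wp] at h
  exact_mod_cast h

lemma apply_eq_sum (m : M) : ρ (e m) = ∑ χ, χ m • wp ρ e χ := by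
  conv_lhs => rw [← mul_one (ρ (e m)), ← sum_wp ρ e, mul_sum]
  exact sum_congr rfl fun χ _ => apply_mul_wp ρ e χ m

lemma trace_apply (m : M) : LinearMap.trace ℂ V (ρ (e m)) = ∑ χ, χ m * (mult ρ e χ : ℂ) := by
  rw [apply_eq_sum, map_sum]
  exact sum_congr rfl fun χ _ => by rw [map_smul, trace_wp, smul_eq_mul]

lemma wp_eq_zero {χ : AddChar M ℂ} (h : mult ρ e χ = 0) : wp ρ e χ = 0 :=
  LinearMap.range_eq_bot.1 (Submodule.finrank_eq_zero.1 h)

lemma exists_wt {χ : AddChar M ℂ} (h : mult ρ e χ ≠ 0) : ∃ v, v ≠ 0 ∧ IsWt ρ e χ v := by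
  by_contra hc
  refine h ?_
  have h0 : wp ρ e χ = 0 := LinearMap.ext fun v => by
    by_contra hv
    exact hc ⟨_, hv, isWt_wp ρ e χ v⟩
  rw [mult, h0, LinearMap.range_zero, finrank_bot]

lemma exists_smul {χ : AddChar M ℂ} (h : mult ρ e χ = 1) {v w : V} (hv : v ≠ 0)
    (hvw : IsWt ρ e χ v) (hw : IsWt ρ e χ w) : ∃ c : ℂ, c • v = w := by
  have h1 : v ∈ LinearMap.range (wp ρ e χ) := ⟨v, wp_apply ρ e hvw⟩
  have h2 : w ∈ LinearMap.range (wp ρ e χ) := ⟨w, wp_apply ρ e hw⟩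
  obtain ⟨c, hc⟩ := exists_smul_eq_of_finrank_eq_one h (x := ⟨v, h1⟩)
    (fun e => hv (congrArg Subtype.val e)) ⟨w, h2⟩
  exact ⟨c, congrArg Subtype.val hc⟩

section Conj

variable {g : G} {f : M ≃ M} {χ χ' : AddChar M ℂ}

omit [FiniteDimensional ℂ V] in
lemma wp_conj (hg : ∀ m, g * e m = e (f m) * g) (hχ : ∀ m, χ' (f m) = χ m) :
    ρ g * wp ρ e χ = wp ρ e χ' * ρ g := by
  simp only [wp, mul_smul_comm, smul_mul_assoc, mul_sum, sum_mul]
  congr 1
  refine Fintype.sum_equiv f _ _ fun m => ?_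
  rw [← map_mul, hg, map_mul]
  congr 1
  rw [AddChar.map_neg_eq_inv, AddChar.map_neg_eq_inv, hχ]

lemma mult_conj (hg : ∀ m, g * e m = e (f m) * g) (hχ : ∀ m, χ' (f m) = χ m) :
    mult ρ e χ = mult ρ e χ' := by
  have h := wp_conj ρ e hg hχ
  have e1 : LinearMap.trace ℂ V (wp ρ e χ) = LinearMap.trace ℂ V (wp ρ e χ') := by
    calc LinearMap.trace ℂ V (wp ρ e χ) = LinearMap.trace ℂ V (ρ g⁻¹ * (ρ g * wp ρ e χ)) := by
          rw [← mul_assoc, ← map_mul, inv_mul_cancel, map_one, one_mul]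
      _ = LinearMap.trace ℂ V (ρ g⁻¹ * (wp ρ e χ' * ρ g)) := by rw [h]
      _ = _ := by
          rw [LinearMap.trace_mul_comm, mul_assoc, ← map_mul, mul_inv_cancel, map_one, mul_one]
  rw [trace_wp, trace_wp] at e1
  exact_mod_cast e1

omit [Fintype M] [FiniteDimensional ℂ V] in
lemma IsWt.conj {v : V} (h : IsWt ρ e χ v) (hg : ∀ m, g * e m = e (f m) * g)
    (hχ : ∀ m, χ' (f m) = χ m) : IsWt ρ e χ' (ρ g v) := fun m => by
  obtain ⟨m, rfl⟩ := f.surjective m
  rw [← Module.End.mul_apply, ← map_mul, ← hg, map_mul, Module.End.mul_apply, h, map_smul, hχ]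

end Conj

end CfsgLib.CharsMore.D4MinDeg
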