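import Cfsg.Agent.Lib.CharsMore.D4MinDeg.Weights

/-!
# Vectors fixed by part of a finite abelian group, and common eigenvectors
-/

set_option autoImplicit false

namespace CfsgLib.CharsMore.D4MinDeg

open Module Finset

variable {M G V : Type*} [AddCommGroup M] [Group G] [AddCommGroup V] [Module ℂ V]
  (ρ : Representation ℂ G V) (e : AddChar M G)

lemma apply_mul_apply (g h : G) (v : V) : ρ (g * h) v = ρ g (ρ h v) := by
  rw [map_mul]; rfl

lemma apply_inv_apply (g : G) (v : V) : ρ g⁻¹ (ρ g v) = v := by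
  rw [← apply_mul_apply, inv_mul_cancel, map_one]; rfl

lemma apply_ne_zero (g : G) {v : V} (hv : v ≠ 0) : ρ g v ≠ 0 := fun h =>
  hv (by rw [← apply_inv_apply ρ g v, h, map_zero])

/-- a family preserving a line acts on it by a character -/
lemma exists_eigChar {v : V} (hv : v ≠ 0) (h : ∀ m, ∃ c : ℂ, c • v = ρ (e m) v) :
    ∃ α : AddChar M ℂ, ∀ m, ρ (e m) v = α m • v := by
  choose c hc using h
  refine ⟨⟨c, ?_, fun m n => smul_left_injective ℂ hv ?_⟩, fun m => (hc m).symm⟩
  · exact smul_left_injective ℂ hv (by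
      show c 0 • v = (1 : ℂ) • v
      rw [hc, e.map_zero_eq_one, map_one, one_smul]; rfl)
  · show c (m + n) • v = (c m * c n) • v
    rw [hc, e.map_add_eq_mul, apply_mul_apply, ← hc n, map_smul, ← hc m, smul_smul, mul_comm]

variable [Fintype M]

lemma wp_eq_zero_of_fixed {χ : AddChar M ℂ} {v : V} {m : M} (hv : ρ (e m) v = v) (hm : χ m ≠ 1) :
    wp ρ e χ v = 0 := by
  have hc : ρ (e m) * wp ρ e χ = wp ρ e χ * ρ (e m) :=
    wp_conj ρ e (f := Equiv.refl M) (fun n => by
      rw [Equiv.refl_apply, ← e.map_add_eq_mul, ← e.map_add_eq_mul, add_comm]) fun _ => rfl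
  have h1 : χ m • wp ρ e χ v = wp ρ e χ v := by
    rw [← isWt_wp ρ e χ v m, ← Module.End.mul_apply, hc, Module.End.mul_apply, hv]
  rcases smul_eq_zero.1 (show (χ m - 1) • wp ρ e χ v = 0 by rw [sub_smul, h1, one_smul, sub_self]) with
    h | h
  · exact absurd (sub_eq_zero.1 h) hm
  · exact h

variable [FiniteDimensional ℂ V]

/-- independent vectors inside the sum of some weight spaces -/
lemma card_le_sum_mult {ι κ : Type*} [Fintype ι] [Fintype κ] (c : κ → AddChar M ℂ) {u : ι → V}
    (hu : LinearIndependent ℂ u) (hsupp : ∀ i, ∑ k, wp ρ e (c k) (u i) = u i) :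
    Fintype.card ι ≤ ∑ k, mult ρ e (c k) := by
  classical
  let Φ : (∀ k, LinearMap.range (wp ρ e (c k))) →ₗ[ℂ] V :=
    LinearMap.lsum ℂ (fun k => LinearMap.range (wp ρ e (c k))) ℂ fun k =>
      (LinearMap.range (wp ρ e (c k))).subtype
  have hle : Submodule.span ℂ (Set.range u) ≤ LinearMap.range Φ := by
    rw [Submodule.span_le]
    rintro _ ⟨i, rfl⟩
    exact ⟨fun k => ⟨_, u i, rfl⟩, by simpa [Φ] using hsupp i⟩
  calc Fintype.card ι = finrank ℂ (Submodule.span ℂ (Set.range u)) := (finrank_span_eq_card hu).symm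
    _ ≤ finrank ℂ (LinearMap.range Φ) := Submodule.finrank_mono hle
    _ ≤ finrank ℂ (∀ k, LinearMap.range (wp ρ e (c k))) := LinearMap.finrank_range_le Φ
    _ = _ := Module.finrank_pi_fintype ℂ

end CfsgLib.CharsMore.D4MinDeg
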